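import Mathlib

/-!
A linear space of matrices over a finite field which contains `1`, is closed under `a * b * a` and
has no non-zero singular element is a commutative algebra (a finite special Jordan division algebra
is a field).

Proof: the minimal polynomial of the generic element has degree at least the dimension by the
theorem of Chevalley and Warning, so the powers of the generic element span.
-/

set_option autoImplicit false
set_option linter.unusedSectionVars false

namespace CfsgLib.Jordan.CWField

open Matrix

universe u v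

variable {k : Type u} [Field k] [Fintype k] {n : Type v} [Fintype n] [DecidableEq n]

/-- The total degree in all variables. -/
noncomputable def deg {d : ℕ} (f : Polynomial (MvPolynomial (Fin d) k)) : ℕ :=
  ((MvPolynomial.finSuccEquiv k d).symm f).totalDegree

theorem deg_mul {d : ℕ} {f g : Polynomial (MvPolynomial (Fin d) k)} (hf : f ≠ 0) (hg : g ≠ 0) :
    deg (f * g) = deg f + deg g := by
  unfold deg
  rw [map_mul]
  exact MvPolynomial.totalDegree_mul_of_isDomain
    (fun h => hf ((MvPolynomial.finSuccEquiv k d).symm.injective (h.trans (map_zero _).symm)))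
    (fun h => hg ((MvPolynomial.finSuccEquiv k d).symm.injective (h.trans (map_zero _).symm)))

theorem coeff_deg_le {d : ℕ} (f : Polynomial (MvPolynomial (Fin d) k)) (i : ℕ)
    (hi : f.coeff i ≠ 0) : (f.coeff i).totalDegree + i ≤ deg f := by
  have h := MvPolynomial.totalDegree_coeff_finSuccEquiv_add_le
    ((MvPolynomial.finSuccEquiv k d).symm f) i
  rw [AlgEquiv.apply_symm_apply] at h
  exact h hi

theorem natDegree_le_deg {d : ℕ} {f : Polynomial (MvPolynomial (Fin d) k)} (hf : f.Monic) :
    f.natDegree ≤ deg f := by
  have h := coeff_deg_le f f.natDegree (by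
    rw [hf.coeff_natDegree]; exact one_ne_zero)
  omega

theorem symm_C_le {d : ℕ} (m : MvPolynomial (Fin d) k) :
    ((MvPolynomial.finSuccEquiv k d).symm (Polynomial.C m)).totalDegree ≤ m.totalDegree := by
  have h : (MvPolynomial.finSuccEquiv k d).symm (Polynomial.C m) = MvPolynomial.rename Fin.succ m := by
    rw [AlgEquiv.symm_apply_eq]
    induction m using MvPolynomial.induction_on with
    | C a => simp [MvPolynomial.finSuccEquiv_apply]
    | add p q hp hq => rw [map_add, map_add, map_add, hp, hq]
    | mul_X p i hp =>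
      rw [map_mul, map_mul, map_mul, ← hp, MvPolynomial.rename_X, MvPolynomial.finSuccEquiv_X_succ]
  rw [h]
  exact MvPolynomial.totalDegree_rename_le _ _

theorem deg_charpoly_le {d : ℕ} (M : Matrix n n (MvPolynomial (Fin d) k))
    (hM : ∀ i j, (M i j).totalDegree ≤ 1) : deg M.charpoly ≤ Fintype.card n := by
  unfold deg Matrix.charpoly
  rw [AlgEquiv.map_det, Matrix.det_apply]
  refine MvPolynomial.totalDegree_finsetSum_le fun σ _ => ?_
  refine (MvPolynomial.totalDegree_smul_le _ _).trans ?_
  refine (MvPolynomial.totalDegree_finsetProd _ _).trans ?_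
  refine (Finset.sum_le_sum (g := fun _ => 1) fun i _ => ?_).trans (by simp)
  show (((MvPolynomial.finSuccEquiv k d).symm) (charmatrix M (σ i) i)).totalDegree ≤ 1
  rw [charmatrix_apply, map_sub]
  refine (MvPolynomial.totalDegree_sub _ _).trans (max_le ?_ ?_)
  · by_cases h : σ i = i
    · rw [h, Matrix.diagonal_apply_eq,
        show (MvPolynomial.finSuccEquiv k d).symm Polynomial.X = MvPolynomial.X 0 by
          rw [AlgEquiv.symm_apply_eq, MvPolynomial.finSuccEquiv_X_zero],
        MvPolynomial.totalDegree_X]
    · rw [Matrix.diagonal_apply_ne _ h, map_zero, MvPolynomial.totalDegree_zero]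
      exact Nat.zero_le _
  · exact (symm_C_le _).trans (hM _ _)

theorem polar {R : Type*} [Ring R] (E : AddSubgroup R) (htri : ∀ a ∈ E, ∀ b ∈ E, a * b * a ∈ E)
    {a b c : R} (ha : a ∈ E) (hb : b ∈ E) (hc : c ∈ E) : a * b * c + c * b * a ∈ E := by
  have h : a * b * c + c * b * a = (a + c) * b * (a + c) - a * b * a - c * b * c := by noncomm_ring
  rw [h]
  exact E.sub_mem (E.sub_mem (htri _ (E.add_mem ha hc) b hb) (htri a ha b hb)) (htri c hc b hb)

/-- The theorem. -/
theorem commutative [Nonempty n] (E : Submodule k (Matrix n n k)) (h1 : (1 : Matrix n n k) ∈ E)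
    (htri : ∀ a ∈ E, ∀ b ∈ E, a * b * a ∈ E) (hdet : ∀ a ∈ E, a ≠ 0 → a.det ≠ 0) :
    (∀ a ∈ E, ∀ b ∈ E, a * b = b * a) ∧ ∀ a ∈ E, ∀ b ∈ E, a * b ∈ E := by
  classical
  set d := Module.finrank k E with hd
  let bas := Module.finBasis k E
  let B : Fin d → Matrix n n k := fun i => (bas i : Matrix n n k)
  let P := MvPolynomial (Fin d) k
  let K := FractionRing P
  let Φ : k →+* K := (algebraMap P K).comp (MvPolynomial.C : k →+* P)
  let BK : Fin d → Matrix n n K := fun i => (B i).map Φ
  let XP : Matrix n n P := ∑ i : Fin d, (MvPolynomial.X i : P) • (B i).map (fun x => (MvPolynomial.C x : P))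
  let XK : Matrix n n K := ∑ i : Fin d, algebraMap P K (MvPolynomial.X i : P) • BK i
  have hXK : XP.map (algebraMap P K) = XK := by
    simp only [XP, XK, BK, Φ]
    ext r s
    simp [Matrix.sum_apply]
    refine Finset.sum_congr rfl fun i _ => ?_
    rw [Algebra.smul_def]
  set Q : Submodule K (Matrix n n K) := Submodule.span K (Set.range BK) with hQ
  have hmapQ : ∀ a ∈ E, a.map Φ ∈ Q := by
    intro a ha
    have e : a = ∑ i, bas.repr ⟨a, ha⟩ i • B i := by
      have h := congrArg Subtype.val (bas.sum_repr ⟨a, ha⟩)
      rw [Submodule.coe_sum] at h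
      exact h.symm
    rw [e, show (∑ i, bas.repr ⟨a, ha⟩ i • B i).map Φ = ∑ i, Φ (bas.repr ⟨a, ha⟩ i) • BK i by
      ext r s; simp [Matrix.sum_apply, BK]]
    exact Submodule.sum_mem _ fun i _ => Submodule.smul_mem _ _ (Submodule.subset_span ⟨i, rfl⟩)
  have hBE : ∀ i, B i ∈ E := fun i => (bas i).2
  have hmul : ∀ a b : Matrix n n k, (a * b).map Φ = a.map Φ * b.map Φ := fun a b => Matrix.map_mul
  -- `Q` is closed under `y ↦ X y X`
  have hclos : ∀ y ∈ Q, XK * y * XK ∈ Q := by
    intro y hy
    induction hy using Submodule.span_induction with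
    | mem y hy =>
      obtain ⟨j, rfl⟩ := hy
      suffices h : ∀ s : Finset (Fin d),
          (∑ i ∈ s, algebraMap P K (MvPolynomial.X i) • BK i) * BK j *
            (∑ i ∈ s, algebraMap P K (MvPolynomial.X i) • BK i) ∈ Q from h Finset.univ
      intro s
      induction s using Finset.induction with
      | empty => simp
      | insert a s has ih =>
        have hpol : ∀ i, BK a * BK j * BK i + BK i * BK j * BK a ∈ Q := fun i => by
          have h := hmapQ _ (polar E.toAddSubgroup htri (hBE a) (hBE j) (hBE i))
          rwa [show (B a * B j * B i + B i * B j * B a).map Φ =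
            BK a * BK j * BK i + BK i * BK j * BK a by
            rw [Matrix.map_add _ (map_add Φ), hmul, hmul, hmul, hmul]] at h
        have hsq : BK a * BK j * BK a ∈ Q := by
          have h := hmapQ _ (htri _ (hBE a) _ (hBE j))
          rwa [show (B a * B j * B a).map Φ = BK a * BK j * BK a by simp only [BK, ← hmul]] at h
        rw [Finset.sum_insert has]
        set t := algebraMap P K (MvPolynomial.X a)
        set Y := ∑ i ∈ s, algebraMap P K (MvPolynomial.X i) • BK i with hY
        have e : (t • BK a + Y) * BK j * (t • BK a + Y) = (t * t) • (BK a * BK j * BK a) +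
            t • (BK a * BK j * Y + Y * BK j * BK a) + Y * BK j * Y := by
          simp only [add_mul, mul_add, Matrix.smul_mul, Matrix.mul_smul, smul_smul, smul_add]
          abel
        rw [e]
        refine Q.add_mem (Q.add_mem (Q.smul_mem _ hsq) (Q.smul_mem _ ?_)) ih
        rw [hY, Finset.mul_sum, Finset.sum_mul, Finset.sum_mul, ← Finset.sum_add_distrib]
        refine Q.sum_mem fun i _ => ?_
        rw [Matrix.mul_smul, Matrix.smul_mul, Matrix.smul_mul, ← smul_add]
        exact Q.smul_mem _ (hpol i)
    | zero => simp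
    | add a b _ _ ha hb => rw [mul_add, add_mul]; exact Q.add_mem ha hb
    | smul c a _ ha => rw [Matrix.mul_smul, Matrix.smul_mul]; exact Q.smul_mem _ ha
  have hpow : ∀ m, XK ^ m ∈ Q := by
    intro m
    induction m using Nat.twoStepInduction with
    | zero =>
      rw [pow_zero]
      have h := hmapQ 1 h1
      rwa [Matrix.map_one Φ (map_zero _) (map_one _)] at h
    | one =>
      rw [pow_one]
      exact Q.sum_mem fun i _ => Q.smul_mem _ (Submodule.subset_span ⟨i, rfl⟩)
    | more m ih _ =>
      rw [pow_succ, pow_succ']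
      exact hclos _ ih
  -- the degree of the generic element
  set μ := minpoly K XK with hμ
  have hint : IsIntegral K XK := Matrix.isIntegral _
  have hμmon : μ.Monic := minpoly.monic hint
  have hdim : d ≤ μ.natDegree := by
    by_contra hlt
    push Not at hlt
    have hχ : (XP.charpoly).map (algebraMap P K) = XK.charpoly := by
      rw [← Matrix.charpoly_map, hXK]
    have hdvd : μ ∣ (XP.charpoly).map (algebraMap P K) := by
      rw [hχ]; exact Matrix.minpoly_dvd_charpoly XK
    obtain ⟨g, hg⟩ := IsIntegrallyClosed.eq_map_mul_C_of_dvd K (Matrix.charpoly_monic XP) hdvd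
    rw [hμmon.leadingCoeff, map_one, mul_one] at hg
    have hinj : Function.Injective (algebraMap P K) := IsFractionRing.injective P K
    have hgmon : g.Monic := Polynomial.monic_of_injective hinj (by rw [hg]; exact hμmon)
    have hgdeg : g.natDegree = μ.natDegree := by
      rw [← hg, Polynomial.natDegree_map_eq_of_injective hinj]
    have hgd : g ∣ XP.charpoly :=
      (Polynomial.map_dvd_map (algebraMap P K) hinj hgmon).1 (by rw [hg]; exact hdvd)
    obtain ⟨q, hq⟩ := hgd
    have hqmon : q.Monic := hgmon.of_mul_monic_left (hq ▸ Matrix.charpoly_monic XP)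
    have hdeg : deg g ≤ g.natDegree := by
      have h1 : deg g + deg q ≤ Fintype.card n := by
        rw [← deg_mul hgmon.ne_zero hqmon.ne_zero, ← hq]
        refine deg_charpoly_le XP fun r s => ?_
        simp only [XP, Matrix.sum_apply, Matrix.smul_apply, Matrix.map_apply]
        refine MvPolynomial.totalDegree_finsetSum_le fun i _ => ?_
        refine (MvPolynomial.totalDegree_mul _ _).trans ?_
        simp
      have h2 := natDegree_le_deg hqmon
      have h3 : g.natDegree + q.natDegree = Fintype.card n := by
        rw [← hgmon.natDegree_mul hqmon, ← hq, Matrix.charpoly_natDegree_eq_dim]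
      omega
    set N := g.coeff 0 with hN
    have hNdeg : N.totalDegree < Fintype.card (Fin d) := by
      rw [Fintype.card_fin]
      by_cases h0 : N = 0
      · rw [h0, MvPolynomial.totalDegree_zero]
        omega
      · have := coeff_deg_le g 0 h0
        rw [← hN] at this
        omega
    -- evaluation
    let ev : (Fin d → k) → P →+* k := fun x => MvPolynomial.eval x
    have hev : ∀ x, XP.map (ev x) = ∑ i, x i • B i := fun x => by
      ext r s
      simp [XP, ev, Matrix.sum_apply]
      exact Finset.sum_congr rfl fun i _ =>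
        congrArg₂ (· * ·) (MvPolynomial.eval_X i) (MvPolynomial.eval_C _)
    have hzero : ∀ x : Fin d → k, MvPolynomial.eval x N = 0 → x = 0 := by
      intro x hx
      have hdet0 : (∑ i, x i • B i).det = 0 := by
        rw [← hev, Matrix.det_eq_sign_charpoly_coeff, Matrix.charpoly_map, hq, Polynomial.map_mul,
          Polynomial.mul_coeff_zero, Polynomial.coeff_map]
        show _ * (MvPolynomial.eval x N * _) = 0
        rw [hx, zero_mul, mul_zero]
      have hmem : (∑ i, x i • B i) ∈ E := E.sum_mem fun i _ => E.smul_mem _ (hBE i)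
      by_contra hx0
      refine hdet _ hmem ?_ hdet0
      intro h0
      have h' : ∑ i, x i • bas i = 0 := Subtype.ext (by simpa [B] using h0)
      exact hx0 (funext fun i => Fintype.linearIndependent_iff.1 bas.linearIndependent x h' i)
    have hz : MvPolynomial.eval (0 : Fin d → k) N = 0 := by
      have hd0 : 0 < μ.natDegree := minpoly.natDegree_pos hint
      have h : g.map (ev 0) ∣ (Polynomial.X : Polynomial k) ^ Fintype.card n := by
        have h' := Polynomial.map_dvd (ev 0) (Dvd.intro q hq.symm : g ∣ XP.charpoly)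
        rw [← Matrix.charpoly_map, hev] at h'
        simpa using h'
      obtain ⟨i, -, hi⟩ := (dvd_prime_pow Polynomial.prime_X _).1 h
      have e := Polynomial.eq_of_monic_of_associated (hgmon.map _) (Polynomial.monic_X_pow i) hi
      have hi0 : i = μ.natDegree := by
        rw [← hgdeg, ← hgmon.natDegree_map (ev 0), e, Polynomial.natDegree_X_pow]
      have := congrArg (fun f : Polynomial k => f.coeff 0) e
      simpa [Polynomial.coeff_map, ev, hi0, hd0.ne] using this
    obtain ⟨p, hp⟩ := CharP.exists k
    haveI := hp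
    haveI : Fact p.Prime := ⟨(FiniteField.card k p).choose_spec.1⟩
    have h := char_dvd_card_solutions p hNdeg
    have hone : Fintype.card {x : Fin d → k // MvPolynomial.eval x N = 0} = 1 :=
      Fintype.card_eq_one_iff.2 ⟨⟨0, hz⟩, fun y => Subtype.ext (hzero y y.2)⟩
    rw [hone, Nat.dvd_one] at h
    exact (Fact.out : p.Prime).one_lt.ne' h
  -- the powers span
  have hspan : Q ≤ Submodule.span K (Set.range fun i : Fin μ.natDegree => XK ^ (i : ℕ)) := by
    have hli := linearIndependent_pow (K := K) XK
    have hle : Submodule.span K (Set.range fun i : Fin μ.natDegree => XK ^ (i : ℕ)) ≤ Q :=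
      Submodule.span_le.2 (by rintro _ ⟨i, rfl⟩; exact hpow i)
    refine le_of_eq (Submodule.eq_of_le_of_finrank_le hle ?_).symm
    rw [finrank_span_eq_card hli, Fintype.card_fin]
    exact (finrank_range_le_card BK).trans (by simpa using hdim)
  have hadj : ∀ y ∈ Q, ∃ f : Polynomial K, Polynomial.aeval XK f = y := by
    intro y hy
    have hy' := hspan hy
    have : Submodule.span K (Set.range fun i : Fin μ.natDegree => XK ^ (i : ℕ)) ≤
        LinearMap.range (Polynomial.aeval XK).toLinearMap :=
      Submodule.span_le.2 (by rintro _ ⟨i, rfl⟩; exact ⟨Polynomial.X ^ (i : ℕ), by simp⟩)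
    exact this hy'
  have hinjΦ : Function.Injective Φ := Φ.injective
  have hcomm : ∀ a ∈ E, ∀ b ∈ E, a * b = b * a := by
    intro a ha b hb
    apply Matrix.map_injective hinjΦ
    obtain ⟨f, hf⟩ := hadj _ (hmapQ a ha)
    obtain ⟨g, hg⟩ := hadj _ (hmapQ b hb)
    show (a * b).map Φ = (b * a).map Φ
    rw [hmul, hmul, ← hf, ← hg, ← map_mul, ← map_mul, mul_comm]
  refine ⟨hcomm, fun a ha b hb => ?_⟩
  obtain ⟨f, hf⟩ := hadj _ (hmapQ a ha)
  obtain ⟨g, hg⟩ := hadj _ (hmapQ b hb)
  have hab : (a * b).map Φ ∈ Q := by
    rw [hmul, ← hf, ← hg, ← map_mul, Polynomial.aeval_eq_sum_range]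
    exact Q.sum_mem fun i _ => Q.smul_mem _ (hpow i)
  -- descend through a functional vanishing on `E`
  by_contra hnot
  obtain ⟨φ, hφ, hφE⟩ := Submodule.exists_le_ker_of_notMem hnot
  let φK : Matrix n n K →ₗ[K] K :=
    { toFun := fun M => ∑ r, ∑ s, M r s * Φ (φ (Matrix.single r s 1))
      map_add' := fun M N => by simp [add_mul, Finset.sum_add_distrib]
      map_smul' := fun c M => by
        simp only [Matrix.smul_apply, smul_eq_mul, RingHom.id_apply, mul_assoc]
        erw [Finset.mul_sum]
        refine Finset.sum_congr rfl fun r _ => ?_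
        erw [Finset.mul_sum]
        }
  have hφK : ∀ M : Matrix n n k, φK (M.map Φ) = Φ (φ M) := by
    intro M
    show ∑ r, ∑ s, Φ (M r s) * Φ (φ (Matrix.single r s 1)) = _
    conv_rhs => rw [Matrix.matrix_eq_sum_single M]
    simp only [map_sum]
    refine Finset.sum_congr rfl fun r _ => Finset.sum_congr rfl fun s _ => ?_
    rw [← map_mul, ← smul_eq_mul, ← map_smul]
    simp
  have hQker : Q ≤ LinearMap.ker φK := Submodule.span_le.2 (by
    rintro _ ⟨i, rfl⟩
    show φK ((B i).map Φ) = 0
    rw [hφK, show φ (B i) = 0 from hφE (hBE i), map_zero])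
  have h : φK ((a * b).map Φ) = 0 := hQker hab
  rw [hφK] at h
  exact hφ (hinjΦ (h.trans (map_zero Φ).symm))

end CfsgLib.Jordan.CWField
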