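import Cfsg.Agent.Lib.Char.Monomial

/-!
# Abelian normal subgroups of small index in nilpotent linear groups
-/

set_option autoImplicit false

namespace CfsgLib.Jordan

open Cfsg CfsgLib.Char
open scoped commutatorElement

/-- An element in the kernel of every constituent is in the kernel. -/
theorem apply_eq_one_of_constituents {G : Type*} [Group G] [Fintype G] {χ : G → ℂ}
    (hχ : IsCharacter G χ) {g : G}
    (h : ∀ ψ : IrrCharacter G, classInner χ (ψ : G → ℂ) ≠ 0 → (ψ : G → ℂ) g = (ψ : G → ℂ) 1) :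
    χ g = χ 1 := by
  classical
  obtain ⟨m, rfl⟩ := exists_multiplicities hχ
  simp only [classInner_sum_smul_irr] at h
  simp only [Finset.sum_apply, Pi.smul_apply, smul_eq_mul]
  refine Finset.sum_congr rfl fun ψ _ => ?_
  by_cases hm : (m ψ : ℂ) = 0
  · rw [hm, zero_mul, zero_mul]
  · rw [h ψ hm]

/-- A nilpotent group with a faithful character of degree `d` has an abelian subgroup of index
dividing `d!`. -/
theorem exists_abelian_index_dvd_factorial {P : Type*} [Group P] [Fintype P] [Group.IsNilpotent P]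
    {χ : P → ℂ} (hχ : IsCharacter P χ) (hfaith : ∀ g : P, χ g = χ 1 → g = 1) {d : ℕ}
    (hd : χ 1 = d) :
    ∃ B : Subgroup P, (∀ x ∈ B, ∀ y ∈ B, x * y = y * x) ∧ B.index ∣ Nat.factorial d := by
  classical
  obtain ⟨m, hm⟩ := exists_multiplicities hχ
  let T := {ψ : IrrCharacter P // m ψ ≠ 0}
  choose H lam hlam using fun ψ : IrrCharacter P => monomial ψ.2
  let f : P →* ((ψ : T) → Equiv.Perm (P ⧸ H ψ.1)) :=
    MonoidHom.pi fun ψ => MulAction.toPermHom P (P ⧸ H ψ.1)
  have hcore : ∀ x ∈ f.ker, ∀ ψ : T, x ∈ (H ψ.1).normalCore := by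
    intro x hx ψ
    rw [Subgroup.normalCore_eq_ker, MonoidHom.mem_ker]
    exact congrFun (MonoidHom.mem_ker.mp hx) ψ
  refine ⟨f.ker, fun a ha b hb => ?_, ?_⟩
  · rw [← commutatorElement_eq_one_iff_mul_comm]
    refine hfaith _ (apply_eq_one_of_constituents hχ fun ψ hψ => ?_)
    have hψm : m ψ ≠ 0 := by
      intro h0
      apply hψ
      rw [hm, classInner_sum_smul_irr, h0, Nat.cast_zero]
    have hN := hcore a ha ⟨ψ, hψm⟩
    have hN' := hcore b hb ⟨ψ, hψm⟩
    have key : ∀ x : P, extendByZero (H ψ) (fun h => (lam ψ h : ℂ))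
        (x⁻¹ * ⁅a, b⁆ * x) = 1 := by
      intro x
      have h1 : x⁻¹ * a * x ∈ H ψ := Subgroup.normalCore_le _ (by
        simpa using (inferInstance : (H ψ).normalCore.Normal).conj_mem a hN x⁻¹)
      have h2 : x⁻¹ * b * x ∈ H ψ := Subgroup.normalCore_le _ (by
        simpa using (inferInstance : (H ψ).normalCore.Normal).conj_mem b hN' x⁻¹)
      have e : x⁻¹ * ⁅a, b⁆ * x =
          ((⁅(⟨_, h1⟩ : H ψ), ⟨_, h2⟩⁆ : H ψ) : P) := by
        simp only [commutatorElement_def, Subgroup.coe_mul, Subgroup.coe_inv]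
        group
      rw [e, extendByZero_coe, map_commutatorElement,
        commutatorElement_eq_one_iff_mul_comm.mpr (mul_comm _ _), Units.val_one]
    rw [hlam ψ, indFun_one]
    simp only [indFun, key, Finset.sum_const, Finset.card_univ, nsmul_eq_mul, map_one,
      Units.val_one, mul_one]
    have hH : (Nat.card (H ψ) : ℂ) ≠ 0 := Nat.cast_ne_zero.mpr Nat.card_pos.ne'
    rw [← Nat.card_eq_fintype_card, ← (H ψ).card_mul_index, Nat.cast_mul, inv_mul_cancel_left₀ hH]
  · have h1 : f.ker.index ∣ ∏ ψ : T, Nat.factorial (H ψ.1).index := by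
      rw [Subgroup.index_ker]
      refine (Subgroup.card_subgroup_dvd_card f.range).trans (dvd_of_eq ?_)
      rw [Nat.card_pi]
      exact Finset.prod_congr rfl fun ψ _ => Nat.card_perm
    refine h1.trans ((Nat.prod_factorial_dvd_factorial_sum _ _).trans (Nat.factorial_dvd_factorial ?_))
    have hdeg : ∀ ψ : IrrCharacter P, (ψ : P → ℂ) 1 = ((H ψ).index : ℂ) := fun ψ => by
      rw [hlam ψ, indFun_one, map_one, Units.val_one, mul_one]
    have hsum : d = ∑ ψ : IrrCharacter P, m ψ * (H ψ).index := by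
      have := congrFun hm 1
      rw [hd] at this
      simp only [Finset.sum_apply, Pi.smul_apply, smul_eq_mul, hdeg] at this
      exact_mod_cast this
    rw [hsum]
    calc ∑ ψ : T, (H ψ.1).index = ∑ ψ ∈ Finset.univ.filter (fun ψ => m ψ ≠ 0), (H ψ).index :=
          (Finset.sum_subtype (Finset.univ.filter fun ψ => m ψ ≠ 0) (by simp)
            fun ψ => (H ψ).index).symm
      _ ≤ ∑ ψ ∈ Finset.univ.filter (fun ψ => m ψ ≠ 0), m ψ * (H ψ).index :=
          Finset.sum_le_sum fun ψ hψ =>
            Nat.le_mul_of_pos_left _ (Nat.pos_of_ne_zero (Finset.mem_filter.mp hψ).2)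
      _ ≤ _ := Finset.sum_le_sum_of_subset (Finset.filter_subset _ _)

end CfsgLib.Jordan
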