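import Cfsg.Agent.Lib.Char.AbelianQuotient
import Cfsg.Agent.Lib.Char.ExtendChar
import Cfsg.Agent.Lib.Char.Twist
import Cfsg.Agent.Lib.Jordan.Monomial

/-!
# Blichfeldt's theorem: abelian Hall subgroups for the primes exceeding the degree plus one
-/

set_option autoImplicit false

namespace CfsgLib.Jordan

open Cfsg CfsgLib.Char Module
open scoped ComplexConjugate commutatorElement

/-- A family of roots of unity whose power sums are invariant under a power map moving every
non-trivial root through more values than the size of the family is trivial. -/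
theorem eq_one_of_powerSums {ι : Type*} [Fintype ι] {p P k : ℕ} [Fact p.Prime]
    (hP : ∃ a, P = p ^ a) (ν : ι → ℂ) (hν : ∀ i, ν i ^ P = 1) (hk : orderOf (k : ZMod p) = p - 1)
    (hι : Fintype.card ι + 1 < p) (h : ∀ j : ℕ, ∑ i, (ν i ^ k) ^ j = ∑ i, ν i ^ j) (i : ι) :
    ν i = 1 := by
  classical
  obtain ⟨a, rfl⟩ := hP
  have hp := (Fact.out : p.Prime)
  set P := p ^ a
  have hP0 : P ≠ 0 := (pow_pos hp.pos a).ne'
  have hgeom : ∀ z : ℂ, z ^ P = 1 →
      ∑ j ∈ Finset.range P, z ^ j = if z = 1 then (P : ℂ) else 0 := by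
    intro z hz
    split_ifs with h1
    · simp [h1]
    · rw [geom_sum_eq h1, hz, sub_self, zero_div]
  have hclosed : ∀ z ∈ Finset.univ.image ν, z ∈ (Finset.univ.image ν).image (· ^ k) := by
    intro z hz
    obtain ⟨i₀, -, rfl⟩ := Finset.mem_image.mp hz
    by_contra hn
    set z := ν i₀
    have hz1 : z⁻¹ ^ P = 1 := by rw [inv_pow, hν, inv_one]
    have e1 : ∑ i, ∑ j ∈ Finset.range P, (z⁻¹ * ν i ^ k) ^ j =
        ∑ i, ∑ j ∈ Finset.range P, (z⁻¹ * ν i) ^ j := by
      rw [Finset.sum_comm, Finset.sum_comm (s := Finset.univ)]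
      refine Finset.sum_congr rfl fun j _ => ?_
      simp only [mul_pow, ← Finset.mul_sum, h]
    rw [Finset.sum_congr rfl fun i _ => hgeom _
        (by rw [mul_pow, hz1, one_mul, ← pow_mul, mul_comm, pow_mul, hν, one_pow]),
      Finset.sum_congr rfl fun i _ => hgeom (z⁻¹ * ν i) (by rw [mul_pow, hz1, one_mul, hν])] at e1
    have hz0 : z ≠ 0 := fun e => by
      have := hν i₀
      rw [show ν i₀ = 0 from e, zero_pow hP0] at this
      exact zero_ne_one this
    have l0 : ∀ i, ¬ (z⁻¹ * ν i ^ k = 1) := by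
      intro i e
      apply hn
      rw [inv_mul_eq_one₀ hz0] at e
      exact Finset.mem_image.mpr ⟨ν i, Finset.mem_image_of_mem _ (Finset.mem_univ _), e.symm⟩
    rw [Finset.sum_eq_zero fun i _ => if_neg (l0 i), eq_comm, Finset.sum_ite,
      Finset.sum_const_zero, add_zero, Finset.sum_const, nsmul_eq_mul, mul_eq_zero,
      Nat.cast_eq_zero, Nat.cast_eq_zero, Finset.card_eq_zero] at e1
    rcases e1 with e1 | e1
    · exact Finset.notMem_empty i₀ (e1 ▸ Finset.mem_filter.mpr ⟨Finset.mem_univ _,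
        inv_mul_cancel₀ hz0⟩)
    · exact hP0 e1
  have himg : (Finset.univ.image ν).image (· ^ k) = Finset.univ.image ν :=
    (Finset.eq_of_subset_of_card_le hclosed Finset.card_image_le).symm
  by_contra hne
  have hmem : ∀ t : ℕ, ν i ^ k ^ t ∈ Finset.univ.image ν := by
    intro t
    induction t with
    | zero => simp
    | succ t ih =>
      rw [pow_succ, pow_mul, ← himg]
      exact Finset.mem_image_of_mem _ ih
  obtain ⟨b, -, hb⟩ := (Nat.dvd_prime_pow hp).mp (orderOf_dvd_of_pow_eq_one (hν i))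
  have hb0 : b ≠ 0 := fun e => hne (orderOf_eq_one_iff.mp (by rw [hb, e, pow_zero]))
  have hcard : (Finset.range (p - 1)).card ≤ (Finset.univ.image ν).card := by
    refine Finset.card_le_card_of_injOn (fun t => ν i ^ k ^ t) (fun t _ => hmem t) ?_
    intro s hs t ht e
    have h1 : k ^ s ≡ k ^ t [MOD orderOf (ν i)] :=
      (isOfFinOrder_iff_pow_eq_one.mpr ⟨P, Nat.pos_of_ne_zero hP0, hν i⟩).pow_eq_pow_iff_modEq.mp e
    have h2 : k ^ s ≡ k ^ t [MOD p] := h1.of_dvd (hb ▸ dvd_pow_self p hb0)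
    have h3 := (ZMod.natCast_eq_natCast_iff _ _ _).mpr h2
    push_cast at h3
    exact pow_injOn_Iio_orderOf (by rw [Set.mem_Iio, hk]; exact Finset.mem_range.mp hs)
      (by rw [Set.mem_Iio, hk]; exact Finset.mem_range.mp ht) h3
  rw [Finset.card_range] at hcard
  have := Finset.card_image_le (s := (Finset.univ : Finset ι)) (f := ν)
  rw [Finset.card_univ] at this
  omega

variable {G : Type*} [Group G] [Fintype G]

/-- The exponent for the Galois twist at `p`. -/
theorem exists_twist (p : ℕ) [Fact p.Prime] (hp : 2 < p) :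
    ∃ k t : ℕ, k.Coprime (Nat.card G) ∧
      k = 1 + Nat.card G / p ^ (Nat.card G).factorization p * t ∧
      ((Nat.card G).factorization p ≠ 0 → orderOf (k : ZMod p) = p - 1) := by
  have hpp := (Fact.out : p.Prime)
  set N := Nat.card G
  have hN : N ≠ 0 := Nat.card_pos.ne'
  set a := N.factorization p
  by_cases ha : a = 0
  · exact ⟨1, 0, Nat.coprime_one_left _, by ring, fun h => absurd ha h⟩
  set M := N / p ^ a
  haveI : NeZero p := ⟨hpp.ne_zero⟩
  obtain ⟨g, hg⟩ := IsCyclic.exists_generator (α := (ZMod p)ˣ)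
  have hord : orderOf g = p - 1 := by
    rw [orderOf_eq_card_of_forall_mem_zpowers hg, Nat.card_eq_fintype_card, ZMod.card_units]
  set r := (g : ZMod p).val
  have hcop : (p ^ a).Coprime M := (Nat.coprime_ordCompl hpp hN).pow_left a
  obtain ⟨k, hk, hk1, hk2⟩ := exists_coprime_exponent hN hcop
    (by rw [Nat.ordProj_mul_ordCompl_eq_self])
    ((ZMod.val_coe_unit_coprime g).pow_right a)
  have hk3 : (k : ZMod p) = (g : ZMod p) := by
    rw [(ZMod.natCast_eq_natCast_iff _ _ _).mpr (hk1.of_dvd (dvd_pow_self p ha)),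
      ZMod.natCast_zmod_val]
  have hk0 : 1 ≤ k := Nat.one_le_iff_ne_zero.mpr fun e => by
    rw [e, Nat.cast_zero] at hk3
    exact g.ne_zero hk3.symm
  obtain ⟨t, ht⟩ := (Nat.modEq_iff_dvd' hk0).mp hk2.symm
  exact ⟨k, t, hk, by omega, fun _ => by rw [hk3, orderOf_units, hord]⟩

/-- Every element of `p`-power order is a power whose exponent is the `p'`-part of the order. -/
theorem exists_pow_ordCompl {p : ℕ} [Fact p.Prime] {x : G} (hx : ∃ b, orderOf x = p ^ b) :
    ∃ g : G, g ^ (Nat.card G / p ^ (Nat.card G).factorization p) = x := by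
  obtain ⟨b, hb⟩ := hx
  obtain ⟨j, hj⟩ := exists_pow_eq_self_of_coprime (x := x)
    (n := Nat.card G / p ^ (Nat.card G).factorization p)
    (by rw [hb]; exact ((Nat.coprime_ordCompl Fact.out Nat.card_pos.ne').symm).pow_right b)
  exact ⟨x ^ j, by rw [← pow_mul, mul_comm, pow_mul, hj]⟩

theorem orderOf_pow_ordCompl (p : ℕ) [Fact p.Prime] (g : G) :
    ∃ b, orderOf (g ^ (Nat.card G / p ^ (Nat.card G).factorization p)) = p ^ b := by
  obtain ⟨b, -, hb⟩ := (Nat.dvd_prime_pow Fact.out).mp
    (orderOf_dvd_of_pow_eq_one (x := g ^ (Nat.card G / p ^ (Nat.card G).factorization p))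
      (n := p ^ (Nat.card G).factorization p) (by
        rw [← pow_mul, mul_comm, Nat.ordProj_mul_ordCompl_eq_self, pow_card_eq_one']))
  exact ⟨b, hb⟩

/-- The twisting linear character at `p`. -/
theorem exists_twist_linear {e : ℕ} (σ : Representation ℂ G (Fin e → ℂ)) (he : 0 < e) (p : ℕ)
    [Fact p.Prime] (hep : e + 1 < p) :
    ∃ (k : ℕ) (c : G →* ℂˣ), k.Coprime (Nat.card G) ∧
      (∀ g : G, (∃ w : ℂ, σ (g ^ (Nat.card G / p ^ (Nat.card G).factorization p)) = w • LinearMap.id)
        → σ.character (g ^ k) = c g * σ.character g) ∧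
      ((∀ g : G, σ.character (g ^ k) = c g * σ.character g) →
        ∀ x : G, (∃ b, orderOf x = p ^ b) → ∃ w : ℂ, σ x = w • LinearMap.id) := by
  classical
  have hpp := (Fact.out : p.Prime)
  haveI : Nontrivial (Fin e → ℂ) := by
    haveI : Nonempty (Fin e) := ⟨⟨0, he⟩⟩
    infer_instance
  set a := (Nat.card G).factorization p
  set M := Nat.card G / p ^ a
  obtain ⟨k, t, hk, hkt, hord⟩ := exists_twist (G := G) p (by omega)
  obtain ⟨m, hm⟩ : ∃ m, e * m ≡ 1 [MOD p ^ a] := by
    by_cases ha : a = 0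
    · exact ⟨0, by rw [ha, pow_zero]; exact Nat.modEq_one⟩
    obtain ⟨m, -, hm⟩ := Nat.exists_mul_mod_eq_one_of_coprime (k := p ^ a) (n := e)
      ((((hpp.coprime_iff_not_dvd).mpr fun h => absurd (Nat.le_of_dvd he h) (by omega)).symm).pow_right a)
      (Nat.one_lt_pow ha hpp.one_lt)
    exact ⟨m, by rw [Nat.ModEq, hm, Nat.mod_eq_of_lt (Nat.one_lt_pow ha hpp.one_lt)]⟩
  refine ⟨k, detHom σ ^ (M * t * m), hk, ?_, ?_⟩
  · rintro g ⟨w, hw⟩
    have hwP : w ^ (p ^ a) = 1 := by
      have h1 : σ ((g ^ M) ^ (p ^ a)) = 1 := by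
        rw [← pow_mul, mul_comm, Nat.ordProj_mul_ordCompl_eq_self, pow_card_eq_one', map_one]
      rw [map_pow, hw, smul_pow] at h1
      have h2 := LinearMap.congr_fun h1 (fun _ => 1)
      rw [show (LinearMap.id : (Fin e → ℂ) →ₗ[ℂ] _) = 1 from rfl, one_pow] at h2
      have h3 := congrFun h2 ⟨0, he⟩
      simpa using h3
    have hdet : ((detHom σ g : ℂˣ) : ℂ) ^ M = w ^ e := by
      rw [← Units.val_pow_eq_pow_val, ← map_pow, detHom_apply, hw, LinearMap.det_smul,
        LinearMap.det_id, mul_one, Module.finrank_fin_fun]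
    have hc : ((((detHom σ) ^ (M * t * m)) g : ℂˣ) : ℂ) = w ^ t := by
      rw [MonoidHom.pow_apply, Units.val_pow_eq_pow_val, mul_assoc, pow_mul, hdet, ← pow_mul,
        show e * (t * m) = t * (e * m) by ring]
      have h1 : t * (e * m) ≡ t * 1 [MOD p ^ a] := hm.mul_left t
      rw [mul_one] at h1
      rw [← Nat.mod_add_div (t * (e * m)) (p ^ a), pow_add, pow_mul, hwP, one_pow, mul_one, h1]
      conv_rhs => rw [← Nat.mod_add_div t (p ^ a), pow_add, pow_mul, hwP, one_pow, mul_one]
    rw [hc]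
    show LinearMap.trace ℂ _ (σ (g ^ k)) = _ * LinearMap.trace ℂ _ (σ g)
    rw [hkt, pow_add, pow_one, pow_mul, map_mul, map_pow, hw, smul_pow,
      show (LinearMap.id : (Fin e → ℂ) →ₗ[ℂ] _) = 1 from rfl, one_pow, mul_smul_comm, mul_one,
      map_smul, smul_eq_mul]
  · intro hall x hx
    set c := detHom σ ^ (M * t * m)
    obtain ⟨b, μ, hμ, hb⟩ := exists_eigenBasis σ x
    obtain ⟨B, hB⟩ := hx
    rcases Nat.eq_zero_or_pos B with rfl | hB0
    · refine ⟨1, ?_⟩
      rw [pow_zero, orderOf_eq_one_iff] at hB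
      rw [hB, map_one, one_smul]
      rfl
    have ha : a ≠ 0 := by
      have := orderOf_dvd_natCard x
      rw [hB] at this
      exact (hpp.factorization_pos_of_dvd Nat.card_pos.ne'
        ((dvd_pow_self p hB0.ne').trans this)).ne'
    have hk1 := hord ha
    have hksub : (k - 1).Coprime (p ^ B) := by
      refine (((hpp.coprime_iff_not_dvd).mpr fun h => ?_).symm).pow_right B
      have h1 : (k : ZMod p) = 1 := by
        rw [← Nat.sub_add_cancel (show 1 ≤ k by omega), Nat.cast_add,
          (CharP.cast_eq_zero_iff (ZMod p) p _).mpr h, zero_add, Nat.cast_one]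
      rw [h1, orderOf_one] at hk1
      omega
    set δ : ℂ := (c x : ℂ) with hδdef
    have hδ : δ ^ (p ^ B) = 1 := by
      rw [← hB, hδdef, ← Units.val_pow_eq_pow_val, ← map_pow, pow_orderOf_eq_one, map_one,
        Units.val_one]
    obtain ⟨n, hn⟩ := exists_pow_eq_self_of_coprime (x := c x) (n := k - 1)
      (Nat.Coprime.coprime_dvd_right (show orderOf (c x) ∣ p ^ B from
        hB ▸ orderOf_map_dvd c x) hksub)
    set η : ℂ := δ ^ n
    have hη : η ^ (k - 1) = δ := by
      have := congrArg Units.val hn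
      rw [Units.val_pow_eq_pow_val, Units.val_pow_eq_pow_val, ← hδdef, ← pow_mul] at this
      rw [← pow_mul, mul_comm, this]
    have hηP : η ^ (p ^ B) = 1 := by rw [← pow_mul, mul_comm, pow_mul, hδ, one_pow]
    have hη0 : η ≠ 0 := fun e0 => by
      rw [e0, zero_pow (pow_pos hpp.pos B).ne'] at hηP
      exact zero_ne_one hηP
    have hchar : ∀ j : ℕ, σ.character (x ^ j) = ∑ i, μ i ^ j := fun j =>
      trace_eq_sum_of_diag b _ _ fun i => hb i j
    have hν : ∀ i, μ i / η = 1 := by
      refine eq_one_of_powerSums (p := p) (k := k) ⟨B, rfl⟩ (fun i => μ i / η)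
        (fun i => by rw [div_pow, hηP, div_one, ← hB, hμ]) hk1
        (by rw [Fintype.card_fin, Module.finrank_fin_fun]; exact hep) fun j => ?_
      have h1 := hall (x ^ j)
      rw [← pow_mul, hchar, hchar, map_pow, Units.val_pow_eq_pow_val, ← hδdef, ← hη,
        ← pow_mul] at h1
      have hne : η ^ ((k - 1) * j) ≠ 0 := pow_ne_zero _ hη0
      have hsplit : η ^ (k * j) = η ^ j * η ^ ((k - 1) * j) := by
        rw [← pow_add]
        congr 1
        rw [Nat.sub_mul, one_mul, Nat.add_sub_cancel' (Nat.le_mul_of_pos_left j (by omega))]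
      simp only [div_pow, ← Finset.sum_div, ← pow_mul]
      rw [mul_comm k j, h1, mul_comm j k, hsplit, mul_comm (η ^ ((k - 1) * j)),
        mul_div_mul_right _ _ hne]
    refine ⟨η, b.ext fun i => ?_⟩
    have h1 := hb i 1
    rw [pow_one, pow_one] at h1
    rw [h1, LinearMap.smul_apply, LinearMap.id_apply, ← (div_eq_one_iff_eq hη0).mp (hν i)]

/-- For an irreducible representation of small degree and two large primes, either one of the
primes acts by scalars or some element has both parts non-scalar. -/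
theorem exists_nonscalar_pair {e : ℕ} (σ : Representation ℂ G (Fin e → ℂ)) (hσ : σ.IsIrreducible)
    (p q : ℕ) [Fact p.Prime] [Fact q.Prime] (hep : e + 1 < p) (heq : e + 1 < q) :
    (∀ x : G, (∃ b, orderOf x = p ^ b) → ∃ w : ℂ, σ x = w • LinearMap.id) ∨
    (∀ x : G, (∃ b, orderOf x = q ^ b) → ∃ w : ℂ, σ x = w • LinearMap.id) ∨
    ∃ x y : G, Commute x y ∧ (∃ b, orderOf x = p ^ b) ∧ (∃ b, orderOf y = q ^ b) ∧
      (¬ ∃ w : ℂ, σ x = w • LinearMap.id) ∧ ¬ ∃ w : ℂ, σ y = w • LinearMap.id := by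
  classical
  have he : 0 < e := by
    have := finrank_pos_of_irreducible σ
    rwa [Module.finrank_fin_fun] at this
  obtain ⟨k, c, hk, hc, hc'⟩ := exists_twist_linear σ he p hep
  obtain ⟨l, d, hl, hd, hd'⟩ := exists_twist_linear σ he q heq
  by_contra hcon
  push Not at hcon
  obtain ⟨⟨x₀, hx₀, hx₀'⟩, ⟨y₀, hy₀, hy₀'⟩, hpair⟩ := hcon
  have hψ : IsIrrCharacter G σ.character := ⟨e, σ, hσ, rfl⟩
  set X0 : G → ℂ := fun g => ((c * d) g : ℂ) * σ.character g
  set X1 : G → ℂ := fun g => (d g : ℂ) * σ.character (g ^ k)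
  set X2 : G → ℂ := fun g => (c g : ℂ) * σ.character (g ^ l)
  have h0 : IsIrrCharacter G X0 := isIrrCharacter_linear_mul hψ _
  have h1 : IsIrrCharacter G X1 := isIrrCharacter_linear_mul (isIrrCharacter_pow hk hψ) _
  have h2 : IsIrrCharacter G X2 := isIrrCharacter_linear_mul (isIrrCharacter_pow hl hψ) _
  have hzero : classInner (X1 - X0) (X2 - X0) = 0 := by
    rw [classInner, Finset.sum_eq_zero (fun g _ => ?_), mul_zero]
    have hcases : (∃ w : ℂ, σ (g ^ (Nat.card G / p ^ (Nat.card G).factorization p)) =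
        w • LinearMap.id) ∨ ∃ w : ℂ, σ (g ^ (Nat.card G / q ^ (Nat.card G).factorization q)) =
        w • LinearMap.id := by
      by_contra hn
      push Not at hn
      obtain ⟨w, hw⟩ := hpair _ _ ((Commute.refl g).pow_pow _ _) (orderOf_pow_ordCompl p g)
        (orderOf_pow_ordCompl q g) (fun w => hn.1 w)
      exact hn.2 w hw
    rcases hcases with h | h
    · have : (X1 - X0) g = 0 := by
        simp only [Pi.sub_apply, X1, X0, hc g h, MonoidHom.mul_apply, Units.val_mul]
        ring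
      rw [this, zero_mul]
    · have : (X2 - X0) g = 0 := by
        simp only [Pi.sub_apply, X2, X0, hd g h, MonoidHom.mul_apply, Units.val_mul]
        ring
      rw [this, map_zero, mul_zero]
  have hne1 : X1 ≠ X0 := by
    intro e1
    refine absurd (hc' (fun g => ?_) x₀ hx₀) (fun ⟨w, hw⟩ => hx₀' w hw)
    have := congrFun e1 g
    simp only [X1, X0, MonoidHom.mul_apply, Units.val_mul] at this
    exact mul_left_cancel₀ (Units.ne_zero (d g)) (by rw [this]; ring)
  have hne2 : X2 ≠ X0 := by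
    intro e1
    refine absurd (hd' (fun g => ?_) y₀ hy₀) (fun ⟨w, hw⟩ => hy₀' w hw)
    have := congrFun e1 g
    simp only [X2, X0, MonoidHom.mul_apply, Units.val_mul] at this
    exact mul_left_cancel₀ (Units.ne_zero (c g)) (by rw [this]; ring)
  rw [classInner_sub_left, classInner_sub_right, classInner_sub_right, classInner_irr_self h0,
    classInner_irr_ne h1 h0 hne1, classInner_irr_ne h0 h2 hne2.symm] at hzero
  obtain ⟨n, hn⟩ := exists_nat_classInner (isCharacter_of_isIrr h1) (isCharacter_of_isIrr h2)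
  rw [hn] at hzero
  have h3 : ((n + 1 : ℕ) : ℂ) = 0 := by push_cast; linear_combination hzero
  exact Nat.succ_ne_zero n (Nat.cast_eq_zero.mp h3)

end CfsgLib.Jordan
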