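import Cfsg.Agent.Lib.Jordan.Blichfeldt

/-!
# An abelian subgroup containing Sylow subgroups for all large primes
-/

set_option autoImplicit false
set_option linter.style.haveILetI false

namespace CfsgLib.Jordan

open Cfsg CfsgLib.Char Module
open scoped commutatorElement

universe u

theorem scalar_of_mem_center {G : Type*} [Group G] [Finite G] {e : ℕ}
    {σ : Representation ℂ G (Fin e → ℂ)} (hσ : σ.IsIrreducible) {z : G}
    (hz : z ∈ Subgroup.center G) : ∃ w : ℂ, σ z = w • LinearMap.id := by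
  haveI := hσ
  let T : Representation.IntertwiningMap σ σ := ⟨σ z, fun b => by
    rw [← Module.End.mul_eq_comp, ← Module.End.mul_eq_comp, ← map_mul, ← map_mul,
      Subgroup.mem_center_iff.mp hz b]⟩
  obtain ⟨w, hw⟩ :=
    (Representation.IsIrreducible.algebraMap_intertwiningMap_bijective_of_isAlgClosed (ρ := σ)).2 T
  refine ⟨w, ?_⟩
  refine Eq.trans (congrArg Representation.IntertwiningMap.toLinearMap hw).symm ?_
  ext v; simp [Algebra.algebraMap_eq_smul_one]

section

variable {G : Type*} [Group G] [Finite G]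

theorem ordProj_dvd_card_of_sylow_le {p : ℕ} [Fact p.Prime] (P : Sylow p G) {H : Subgroup G}
    (h : (P : Subgroup G) ≤ H) : p ^ (Nat.card G).factorization p ∣ Nat.card H :=
  P.card_eq_multiplicity ▸ Subgroup.card_dvd_of_le h

theorem exists_orderOf_eq {p : ℕ} [Fact p.Prime] (P : Sylow p G) {x : G}
    (hx : x ∈ (P : Subgroup G)) : ∃ b, orderOf x = p ^ b := by
  obtain ⟨n, hn⟩ := P.isPGroup' ⟨x, hx⟩
  obtain ⟨b, -, hb⟩ := (Nat.dvd_prime_pow Fact.out).mp (orderOf_dvd_of_pow_eq_one hn)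
  exact ⟨b, by rwa [Subgroup.orderOf_mk] at hb⟩

/-- An element of `p`-power order has a conjugate in any subgroup of full `p`-part. -/
theorem exists_conj_mem {p : ℕ} [Fact p.Prime] {H : Subgroup G}
    (hH : p ^ (Nat.card G).factorization p ∣ Nat.card H) {x : G} (hx : ∃ b, orderOf x = p ^ b) :
    ∃ g : G, g * x * g⁻¹ ∈ H := by
  obtain ⟨K, hK⟩ := Sylow.exists_subgroup_card_pow_prime p hH
  let P : Sylow p G := Sylow.ofCard (K.map H.subtype) (by
    rw [Subgroup.card_map_of_injective H.subtype_injective, hK])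
  obtain ⟨b, hb⟩ := hx
  obtain ⟨Q, hQ⟩ := (IsPGroup.of_card (by rw [Nat.card_zpowers, hb]) :
    IsPGroup p (Subgroup.zpowers x)).exists_le_sylow
  obtain ⟨g, hg⟩ := MulAction.exists_smul_eq G Q P
  refine ⟨g, ?_⟩
  have hmem : g * x * g⁻¹ ∈ (P : Subgroup G) := by
    rw [← hg, Sylow.coe_subgroup_smul]
    exact Subgroup.smul_mem_pointwise_smul x (MulAut.conj g) _ (hQ (Subgroup.mem_zpowers x))
  obtain ⟨y, -, hy⟩ := Subgroup.mem_map.mp (show g * x * g⁻¹ ∈ K.map H.subtype from hmem)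
  exact hy ▸ y.2

theorem exists_sylow_le {p : ℕ} [Fact p.Prime] {H : Subgroup G}
    (hH : p ^ (Nat.card G).factorization p ∣ Nat.card H) :
    ∃ P : Sylow p G, (P : Subgroup G) ≤ H := by
  obtain ⟨K, hK⟩ := Sylow.exists_subgroup_card_pow_prime p hH
  exact ⟨Sylow.ofCard (K.map H.subtype) (by
    rw [Subgroup.card_map_of_injective H.subtype_injective, hK]), Subgroup.map_subtype_le K⟩

theorem centralizer_sylow_card {p : ℕ} [Fact p.Prime] (P Q : Sylow p G) :
    Nat.card (Subgroup.centralizer ((P : Subgroup G) : Set G)) =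
      Nat.card (Subgroup.centralizer ((Q : Subgroup G) : Set G)) := by
  obtain ⟨g, rfl⟩ := MulAction.exists_smul_eq G P Q
  refine Nat.card_congr ((MulAut.conj g).toEquiv.subtypeEquiv fun c => ?_)
  show c ∈ Subgroup.centralizer _ ↔ g * c * g⁻¹ ∈ Subgroup.centralizer _
  simp only [Subgroup.mem_centralizer_iff, SetLike.mem_coe]
  constructor
  · intro h y hy
    rw [Sylow.coe_subgroup_smul, Subgroup.mem_pointwise_smul_iff_inv_smul_mem] at hy
    have := h _ hy
    simp only [MulAut.smul_def, map_inv, MulAut.inv_apply, MulAut.conj_symm_apply] at this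
    calc y * (g * c * g⁻¹) = g * ((g⁻¹ * y * g) * c) * g⁻¹ := by group
      _ = g * (c * (g⁻¹ * y * g)) * g⁻¹ := by rw [this]
      _ = g * c * g⁻¹ * y := by group
  · intro h y hy
    have := h (g * y * g⁻¹) (by
      rw [Sylow.coe_subgroup_smul]
      exact Subgroup.smul_mem_pointwise_smul y (MulAut.conj g) _ hy)
    calc y * c = g⁻¹ * ((g * y * g⁻¹) * (g * c * g⁻¹)) * g := by group
      _ = g⁻¹ * ((g * c * g⁻¹) * (g * y * g⁻¹)) * g := by rw [this]
      _ = c * y := by group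

end

/-- Sylow subgroups for primes exceeding the degree are abelian. -/
theorem sylow_commute {G : Type*} [Group G] [Fintype G] {χ : G → ℂ} (hχ : IsCharacter G χ)
    (hfaith : ∀ g : G, χ g = χ 1 → g = 1) {d : ℕ} (hd : χ 1 = d) {p : ℕ} [Fact p.Prime]
    (hp : d < p) (P : Sylow p G) {x y : G} (hx : x ∈ (P : Subgroup G))
    (hy : y ∈ (P : Subgroup G)) : x * y = y * x := by
  classical
  haveI := Fintype.ofFinite (P : Subgroup G)
  haveI : Group.IsNilpotent (P : Subgroup G) := P.isPGroup'.isNilpotent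
  obtain ⟨B, hB, hidx⟩ := exists_abelian_index_dvd_factorial
    (χ := fun h : (P : Subgroup G) => χ h) (isCharacter_restrict _ hχ)
    (fun g hg => Subtype.ext (hfaith _ hg)) hd
  obtain ⟨b, hb⟩ := P.isPGroup'.index B
  have hb0 : b = 0 := by
    by_contra hb0
    have h1 : p ∣ Nat.factorial d := (dvd_pow_self p hb0).trans (hb ▸ hidx)
    exact absurd ((Nat.Prime.dvd_factorial Fact.out).mp h1) (not_le.mpr hp)
  rw [hb0, pow_zero, Subgroup.index_eq_one] at hb
  exact congrArg Subtype.val (hB ⟨x, hx⟩ (hb ▸ Subgroup.mem_top _) ⟨y, hy⟩ (hb ▸ Subgroup.mem_top _))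

/-- Two large primes admit commuting non-central elements, if each admits a non-central element. -/
theorem exists_commuting_pair {G : Type*} [Group G] [Fintype G] {χ : G → ℂ}
    (hχ : IsCharacter G χ) (hfaith : ∀ g : G, χ g = χ 1 → g = 1) {d : ℕ} (hd : χ 1 = d)
    {p q : ℕ} [Fact p.Prime] [Fact q.Prime] (hp : d + 1 < p) (hq : d + 1 < q)
    {x₀ y₀ : G} (hx : ∃ b, orderOf x₀ = p ^ b) (hx' : x₀ ∉ Subgroup.center G)
    (hy : ∃ b, orderOf y₀ = q ^ b) (hy' : y₀ ∉ Subgroup.center G) :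
    ∃ x y : G, Commute x y ∧ (∃ b, orderOf x = p ^ b) ∧ (∃ b, orderOf y = q ^ b) ∧
      x ∉ Subgroup.center G ∧ y ∉ Subgroup.center G := by
  classical
  by_cases hxy : Commute x₀ y₀
  · exact ⟨x₀, y₀, hxy, hx, hy, hx', hy'⟩
  by_contra hcon
  apply hxy
  rw [commute_iff_eq, ← commutatorElement_eq_one_iff_mul_comm]
  refine hfaith _ (apply_eq_one_of_constituents hχ fun ψ hψ => ?_)
  obtain ⟨e, σ, hσ, hσψ⟩ := ψ.2
  have hed : e ≤ d := by
    obtain ⟨m, hm⟩ := exists_multiplicities hχ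
    have hmψ : m ψ ≠ 0 := fun h0 => hψ (by rw [hm, classInner_sum_smul_irr, h0, Nat.cast_zero])
    choose deg hdeg using fun ξ : IrrCharacter G => exists_nat_degree_irr ξ.2
    have he : deg ψ = e := by
      have h1 := (hdeg ψ).2
      rw [← hσψ, Representation.char_one, Module.finrank_fin_fun] at h1
      exact_mod_cast h1.symm
    have hsum : d = ∑ ξ : IrrCharacter G, m ξ * deg ξ := by
      have := congrFun hm 1
      rw [hd] at this
      simp only [Finset.sum_apply, Pi.smul_apply, smul_eq_mul, fun ξ => (hdeg ξ).2] at this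
      exact_mod_cast this
    rw [hsum, ← he]
    exact (Nat.le_mul_of_pos_left _ (Nat.pos_of_ne_zero hmψ)).trans
      (Finset.single_le_sum (f := fun ξ => m ξ * deg ξ) (fun _ _ => Nat.zero_le _)
        (Finset.mem_univ ψ))
  have key : σ ⁅x₀, y₀⁆ = 1 := by
    have hinv : ∀ z : G, σ z * σ z⁻¹ = 1 := fun z => by rw [← map_mul, mul_inv_cancel, map_one]
    have hcomm : σ x₀ * σ y₀ = σ y₀ * σ x₀ := by
      rcases exists_nonscalar_pair σ hσ p q (by omega) (by omega) with h | h |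
        ⟨x, y, hc, h1, h2, h3, h4⟩
      · obtain ⟨w, hw⟩ := h x₀ hx
        rw [hw, show (LinearMap.id : (Fin e → ℂ) →ₗ[ℂ] _) = 1 from rfl, smul_one_mul, mul_smul_one]
      · obtain ⟨w, hw⟩ := h y₀ hy
        rw [hw, show (LinearMap.id : (Fin e → ℂ) →ₗ[ℂ] _) = 1 from rfl, smul_one_mul, mul_smul_one]
      · exact absurd ⟨x, y, hc, h1, h2, fun h => h3 (scalar_of_mem_center hσ h),
          fun h => h4 (scalar_of_mem_center hσ h)⟩ hcon
    rw [commutatorElement_def, map_mul, map_mul, map_mul, hcomm, mul_assoc (σ y₀), hinv, mul_one,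
      hinv]
  rw [← hσψ]
  show LinearMap.trace ℂ _ (σ _) = LinearMap.trace ℂ _ (σ 1)
  rw [key, map_one σ]

theorem exists_abelian_aux : ∀ (n : ℕ) (G : Type u) [Group G] [Fintype G], Nat.card G = n →
    ∀ (d : ℕ) (χ : G → ℂ), IsCharacter G χ → (∀ g : G, χ g = χ 1 → g = 1) → χ 1 = d →
      ∃ H : Subgroup G, (∀ x ∈ H, ∀ y ∈ H, x * y = y * x) ∧
        ∀ p : ℕ, p.Prime → d + 1 < p → p ^ (Nat.card G).factorization p ∣ Nat.card H := by
  classical
  intro n
  induction n using Nat.strong_induction_on with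
  | _ n ih => ?_
  intro G _ _ hn d χ hχ hfaith hd
  have hsub : ∀ C : Subgroup G, C ≠ ⊤ → ∃ K : Subgroup G, K ≤ C ∧
      (∀ x ∈ K, ∀ y ∈ K, x * y = y * x) ∧
      ∀ p : ℕ, p.Prime → d + 1 < p → p ^ (Nat.card C).factorization p ∣ Nat.card K := by
    intro C hC
    haveI := Fintype.ofFinite C
    obtain ⟨K, hK1, hK2⟩ := ih (Nat.card C)
      (hn ▸ lt_of_le_of_ne (Subgroup.card_le_card_group _) fun e => hC (Subgroup.eq_top_of_card_eq _ e))
      C rfl d (fun h : C => χ h) (isCharacter_restrict _ hχ)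
      (fun g hg => Subtype.ext (hfaith _ hg)) hd
    refine ⟨K.map C.subtype, Subgroup.map_subtype_le K, ?_, fun p hp hp' => ?_⟩
    · rintro _ ⟨a, ha, rfl⟩ _ ⟨b, hb, rfl⟩
      exact congrArg C.subtype (hK1 a ha b hb)
    · rw [Subgroup.card_map_of_injective C.subtype_injective]
      exact hK2 p hp hp'
  have hne : ∀ {x : G}, x ∉ Subgroup.center G → Subgroup.centralizer ({x} : Set G) ≠ ⊤ :=
    fun {x} hx e => hx (Subgroup.mem_center_iff.mpr fun g =>
      (Subgroup.mem_centralizer_singleton_iff.mp (e ▸ Subgroup.mem_top g)))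
  have hfac : ∀ {C : Subgroup G} {p : ℕ} [Fact p.Prime],
      p ^ (Nat.card G).factorization p ∣ Nat.card C →
        (Nat.card C).factorization p = (Nat.card G).factorization p := by
    intro C p _ h
    exact le_antisymm
      ((Nat.factorization_le_iff_dvd Nat.card_pos.ne' Nat.card_pos.ne').mpr
        C.card_subgroup_dvd_card p)
      (((Fact.out : p.Prime).pow_dvd_iff_le_factorization Nat.card_pos.ne').mp h)
  have hfull : ∀ (p : ℕ) [Fact p.Prime], d + 1 < p → ∀ z : G, (∃ b, orderOf z = p ^ b) →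
      p ^ (Nat.card G).factorization p ∣ Nat.card (Subgroup.centralizer ({z} : Set G)) := by
    intro p _ hp z ⟨b, hb⟩
    obtain ⟨Q, hQ⟩ := (IsPGroup.of_card (by rw [Nat.card_zpowers, hb]) :
      IsPGroup p (Subgroup.zpowers z)).exists_le_sylow
    exact ordProj_dvd_card_of_sylow_le Q fun w hw => Subgroup.mem_centralizer_singleton_iff.mpr
      (sylow_commute hχ hfaith hd (by omega) Q (hQ (Subgroup.mem_zpowers z)) hw).symm
  by_cases hall : ∀ p : ℕ, p.Prime → d + 1 < p → ∀ x : G, (∃ b, orderOf x = p ^ b) →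
      x ∈ Subgroup.center G
  · refine ⟨Subgroup.center G, fun x _ y hy => Subgroup.mem_center_iff.mp hy x, fun p hp hp' => ?_⟩
    haveI := Fact.mk hp
    exact ordProj_dvd_card_of_sylow_le default fun x hx => hall p hp hp' x (exists_orderOf_eq _ hx)
  push Not at hall
  obtain ⟨p, hp, hp', x₀, hx₀, hx₀'⟩ := hall
  haveI := Fact.mk hp
  obtain ⟨b₀, hb₀⟩ := hx₀
  obtain ⟨P, hP⟩ := (IsPGroup.of_card (by rw [Nat.card_zpowers, hb₀]) :
    IsPGroup p (Subgroup.zpowers x₀)).exists_le_sylow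
  set C := Subgroup.centralizer ((P : Subgroup G) : Set G)
  have hCtop : C ≠ ⊤ := fun e => hx₀' (Subgroup.mem_center_iff.mpr fun g =>
    (Subgroup.mem_centralizer_iff.mp (e ▸ Subgroup.mem_top g : g ∈ C) x₀
      (hP (Subgroup.mem_zpowers x₀))).symm)
  suffices hC : ∀ q : ℕ, q.Prime → d + 1 < q → q ^ (Nat.card G).factorization q ∣ Nat.card C by
    obtain ⟨K, -, hK1, hK2⟩ := hsub C hCtop
    refine ⟨K, hK1, fun q hq hq' => ?_⟩
    haveI := Fact.mk hq
    have := hK2 q hq hq'
    rwa [hfac (hC q hq hq')] at this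
  intro q hq hq'
  haveI := Fact.mk hq
  by_cases hcen : ∀ y : G, (∃ b, orderOf y = q ^ b) → y ∈ Subgroup.center G
  · exact ordProj_dvd_card_of_sylow_le default fun y hy => Subgroup.mem_centralizer_iff.mpr fun g _ =>
      Subgroup.mem_center_iff.mp (hcen y (exists_orderOf_eq _ hy)) g
  push Not at hcen
  obtain ⟨y₀, hy₀, hy₀'⟩ := hcen
  obtain ⟨x, y, hxy, hx, hy, hx', hy'⟩ :=
    exists_commuting_pair hχ hfaith hd hp' hq' ⟨b₀, hb₀⟩ hx₀' hy₀ hy₀'
  obtain ⟨L, hLle, hL1, hL2⟩ := hsub _ (hne hy')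
  have hxC : x ∈ Subgroup.centralizer ({y} : Set G) :=
    Subgroup.mem_centralizer_singleton_iff.mpr hxy.eq
  obtain ⟨g, hg⟩ := exists_conj_mem (G := Subgroup.centralizer ({y} : Set G))
    (H := L.subgroupOf _) (p := p)
    (by rw [Nat.card_congr (Subgroup.subgroupOfEquivOfLe hLle).toEquiv]; exact hL2 p hp hp')
    (x := ⟨x, hxC⟩) (by simpa only [Subgroup.orderOf_mk] using hx)
  rw [Subgroup.mem_subgroupOf] at hg
  push_cast at hg
  set x' := (g : G) * x * (g : G)⁻¹
  have hx'o : ∃ b, orderOf x' = p ^ b := by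
    obtain ⟨b, hb⟩ := hx
    exact ⟨b, by rw [← hb, ← (MulAut.conj (g : G)).orderOf_eq x]; rfl⟩
  have hx'c : x' ∉ Subgroup.center G := fun h => hx' (by
    simpa [x', mul_assoc] using (inferInstance : (Subgroup.center G).Normal).conj_mem _ h (g : G)⁻¹)
  have hqfull : q ^ (Nat.card G).factorization q ∣ Nat.card L := by
    have := hL2 q hq hq'
    rwa [hfac (hfull q hq' y hy)] at this
  have hqx : q ^ (Nat.card G).factorization q ∣
      Nat.card (Subgroup.centralizer ({x'} : Set G)) :=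
    hqfull.trans (Subgroup.card_dvd_of_le fun w hw =>
      Subgroup.mem_centralizer_singleton_iff.mpr (hL1 w hw x' hg))
  obtain ⟨K, -, hK1, hK2⟩ := hsub _ (hne hx'c)
  have hpK := hK2 p hp hp'
  rw [hfac (hfull p hp' x' hx'o)] at hpK
  have hqK := hK2 q hq hq'
  rw [hfac hqx] at hqK
  obtain ⟨P', hP'⟩ := exists_sylow_le hpK
  show q ^ _ ∣ Nat.card (Subgroup.centralizer ((P : Subgroup G) : Set G))
  rw [centralizer_sylow_card P P']
  exact hqK.trans (Subgroup.card_dvd_of_le fun w hw =>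
    Subgroup.mem_centralizer_iff.mpr fun z hz => hK1 z (hP' hz) w hw)

/-- A finite group with a faithful character of degree `d` has an abelian subgroup containing
Sylow subgroups for all primes exceeding `d + 1`. -/
theorem exists_abelian {G : Type*} [Group G] [Fintype G] {χ : G → ℂ} (hχ : IsCharacter G χ)
    (hfaith : ∀ g : G, χ g = χ 1 → g = 1) {d : ℕ} (hd : χ 1 = d) :
    ∃ H : Subgroup G, (∀ x ∈ H, ∀ y ∈ H, x * y = y * x) ∧
      ∀ p : ℕ, p.Prime → d + 1 < p → p ^ (Nat.card G).factorization p ∣ Nat.card H :=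
  exists_abelian_aux _ G rfl d χ hχ hfaith hd

end CfsgLib.Jordan
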