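import Mathlib

/-!
An additive subgroup of a ring of characteristic two which contains `1`, consists of units and zero,
and is closed under inverses: closure under squares, Jordan products, commuting products.
-/

set_option autoImplicit false
set_option linter.style.haveILetI false

namespace CfsgLib.Jordan.InvClosed

variable {R : Type*} [Ring R]

/-- The hypotheses. -/
structure Hyp (E : AddSubgroup R) : Prop where
  two : (1 : R) + 1 = 0
  nontrivial : (1 : R) ≠ 0
  one : (1 : R) ∈ E
  inv : ∀ a ∈ E, a ≠ 0 → ∃ b ∈ E, a * b = 1 ∧ b * a = 1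

variable {E : AddSubgroup R}

namespace Hyp

variable (h : Hyp E)
include h

theorem add_self (x : R) : x + x = 0 := by
  rw [show x + x = x * (1 + 1) by rw [mul_add, mul_one], h.two, mul_zero]

theorem eq_of_add_eq_zero {x y : R} (e : x + y = 0) : x = y := by
  have := congrArg (· + y) e
  simpa [add_assoc, h.add_self] using this

theorem sub_eq (x y : R) : x - y = x + y := by
  rw [sub_eq_add_neg, show -y = y from (eq_neg_of_add_eq_zero_left (h.add_self y)).symm]

theorem mul_eq_zero_left {a x : R} (ha : a ∈ E) (ha0 : a ≠ 0) (hx : a * x = 0) : x = 0 := by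
  obtain ⟨b, -, -, hb⟩ := h.inv a ha ha0
  rw [← one_mul x, ← hb, mul_assoc, hx, mul_zero]

theorem left_cancel {a x y : R} (ha : a ∈ E) (ha0 : a ≠ 0) (e : a * x = a * y) : x = y :=
  sub_eq_zero.mp (h.mul_eq_zero_left ha ha0 (by rw [mul_sub, e, sub_self]))

/-- **Hua**: closure under `b ↦ a * b * a`. -/
theorem mul_mul {a b : R} (ha : a ∈ E) (hb : b ∈ E) : a * b * a ∈ E := by
  by_cases ha0 : a = 0
  · rw [ha0, zero_mul, zero_mul]; exact E.zero_mem
  by_cases hb0 : b = 0
  · rw [hb0, mul_zero, zero_mul]; exact E.zero_mem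
  by_cases hab : a * b = 1
  · rw [hab, one_mul]; exact ha
  obtain ⟨a', ha', haa', ha'a⟩ := h.inv a ha ha0
  obtain ⟨b', hb', hbb', hb'b⟩ := h.inv b hb hb0
  have hc0 : b' - a ≠ 0 := by
    intro e
    rw [sub_eq_zero] at e
    exact hab (e ▸ hb'b)
  obtain ⟨c', hc', hcc', -⟩ := h.inv _ (E.sub_mem hb' ha) hc0
  have h1 : a * (a' + c') * (b' - a) = b' := by
    have hc'c : c' * (b' - a) = 1 := by
      obtain ⟨d, -, hd1, hd2⟩ := h.inv _ hc' (fun e => h.nontrivial (by rw [← hcc', e, mul_zero]))
      have : b' - a = d := by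
        rw [← mul_one (b' - a), ← hd1, ← mul_assoc, hcc', one_mul]
      rw [this, hd1]
    rw [mul_add, haa', add_mul, one_mul, mul_assoc, hc'c, mul_one, sub_add_cancel]
  have h2 : (a' + c') ≠ 0 := by
    intro e
    rw [e, mul_zero, zero_mul] at h1
    exact h.nontrivial (by rw [← hbb', ← h1, mul_zero])
  obtain ⟨d, hd, hsd, hds⟩ := h.inv _ (E.add_mem ha' hc') h2
  have h3 : d = (b' - a) * (b * a) := by
    calc d = d * (a' * (b' * (b * a))) := by
          rw [← mul_assoc b', hb'b, one_mul, ha'a, mul_one]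
      _ = d * (a' * (a * (a' + c') * (b' - a) * (b * a))) := by rw [h1]
      _ = d * (a' + c') * ((b' - a) * (b * a)) := by
          rw [mul_assoc a, mul_assoc a, ← mul_assoc a' a, ha'a, one_mul, mul_assoc d, mul_assoc]
      _ = _ := by rw [hds, one_mul]
  have h4 : a * b * a = a - d := by
    rw [h3, sub_mul, ← mul_assoc b', hb'b, one_mul, sub_sub_cancel, mul_assoc]
  rw [h4]
  exact E.sub_mem ha hd

theorem sq_mem {a : R} (ha : a ∈ E) : a * a ∈ E := by
  have := h.mul_mul ha h.one
  rwa [mul_one] at this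

theorem pow_mem {a : R} (ha : a ∈ E) : ∀ n : ℕ, a ^ n ∈ E
  | 0 => by rw [pow_zero]; exact h.one
  | 1 => by rw [pow_one]; exact ha
  | n + 2 => by
    rw [pow_succ, pow_succ']
    exact h.mul_mul ha (Hyp.pow_mem ha n)

theorem anti_mem {a b : R} (ha : a ∈ E) (hb : b ∈ E) : a * b + b * a ∈ E := by
  have : a * b + b * a = (a + b) * (a + b) - a * a - b * b := by noncomm_ring
  rw [this]
  exact E.sub_mem (E.sub_mem (h.sq_mem (E.add_mem ha hb)) (h.sq_mem ha)) (h.sq_mem hb)

theorem closure_singleton_mem {a : R} (ha : a ∈ E) {x : R} (hx : x ∈ Subring.closure ({a} : Set R)) :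
    x ∈ E := by
  rw [Subring.mem_closure_iff] at hx
  refine (AddSubgroup.closure_le E).mpr ?_ hx
  intro y hy
  obtain ⟨n, rfl⟩ := Submonoid.mem_closure_singleton.mp hy
  exact h.pow_mem ha n

omit h in
theorem closure_comm {T : Set R} (hT : ∀ x ∈ T, ∀ y ∈ T, x * y = y * x) {x y : R}
    (hx : x ∈ Subring.closure T) (hy : y ∈ Subring.closure T) : x * y = y * x := by
  have h1 : Subring.closure T ≤ Subring.centralizer T := Subring.closure_le.mpr fun z hz =>
    Subring.mem_centralizer_iff.mpr fun w hw => hT w hw z hz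
  have h2 : Subring.closure T ≤ Subring.centralizer (Subring.closure T : Set R) :=
    Subring.closure_le.mpr fun z hz => Subring.mem_centralizer_iff.mpr fun w hw =>
      (Subring.mem_centralizer_iff.mp (h1 hw) z hz).symm
  exact (Subring.mem_centralizer_iff.mp (h2 hx) y hy).symm

variable [Finite R]

/-- Every element has a square root commuting with everything that commutes with it. -/
theorem exists_sqrt {a : R} (ha : a ∈ E) :
    ∃ r ∈ E, r * r = a ∧ ∀ x, x * a = a * x → x * r = r * x := by
  set S := Subring.closure ({a} : Set R) with hS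
  have hcomm : ∀ x ∈ S, ∀ y ∈ S, x * y = y * x := fun x hx y hy =>
    closure_comm (by rintro x rfl y rfl; rfl) hx hy
  have hinj : Function.Injective (fun x : S => x * x) := by
    intro x y e
    have e' : (x : R) * x = (y : R) * y := congrArg Subtype.val e
    apply Subtype.ext
    refine h.eq_of_add_eq_zero ?_
    by_contra hne
    have hm : (x : R) + y ∈ E := h.closure_singleton_mem ha (S.add_mem x.2 y.2)
    refine hne (h.mul_eq_zero_left hm hne ?_)
    rw [add_mul, mul_add, mul_add, hcomm y y.2 x x.2, e', add_assoc, ← add_assoc ((x : R) * y),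
      h.add_self, zero_add, h.add_self]
  obtain ⟨r, hr⟩ := (Finite.injective_iff_surjective.mp hinj) ⟨a, Subring.subset_closure rfl⟩
  refine ⟨r, h.closure_singleton_mem ha r.2, congrArg Subtype.val hr, fun x hx => ?_⟩
  have : S ≤ Subring.centralizer {x} := Subring.closure_le.mpr fun z hz => by
    rw [Set.mem_singleton_iff] at hz
    exact Subring.mem_centralizer_iff.mpr fun w hw => by
      rw [Set.mem_singleton_iff] at hw; rw [hw, hz, hx]
  exact Subring.mem_centralizer_iff.mp (this r.2) x rfl

theorem mul_mem_of_comm {a b : R} (ha : a ∈ E) (hb : b ∈ E) (e : a * b = b * a) : a * b ∈ E := by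
  obtain ⟨r, hr, hrr, hcr⟩ := h.exists_sqrt ha
  have := h.mul_mul hr hb
  rwa [mul_assoc r b, hcr b e.symm, ← mul_assoc, hrr] at this

theorem closure_mem {T : Set R} (hT : ∀ x ∈ T, ∀ y ∈ T, x * y = y * x) (hTE : T ⊆ E) {x : R}
    (hx : x ∈ Subring.closure T) : x ∈ E := by
  induction hx using Subring.closure_induction with
  | mem y hy => exact hTE hy
  | zero => exact E.zero_mem
  | one => exact h.one
  | add _ _ _ _ ha hb => exact E.add_mem ha hb
  | neg _ _ ha => exact E.neg_mem ha
  | mul _ _ ha' hb' ha hb => exact h.mul_mem_of_comm ha hb (closure_comm hT ha' hb')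

end Hyp

end CfsgLib.Jordan.InvClosed
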