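import Mathlib

/-!
Elements acting semilinearly on a finite field inside a ring: every fixed element is a norm, and an
eigenvalue of the power of a semilinear element gives an eigenvalue of the element itself.
-/

set_option autoImplicit false
set_option linter.style.haveILetI false

namespace CfsgLib.Jordan.InvClosed

variable {F : Type*} [Field F]

/-- Products of characters: independence with values in a ring. -/
theorem eq_zero_of_sum_chars {R ι' : Type*} [Ring R] (ι : F →+* R) (f : ι' → F →* F)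
    (S : Finset ι') (hf : ∀ i ∈ S, ∀ j ∈ S, f i = f j → i = j) (X : ι' → R)
    (h : ∀ c : F, ∑ i ∈ S, ι (f i c) * X i = 0) : ∀ i ∈ S, X i = 0 := by
  classical
  induction S using Finset.induction_on generalizing X with
  | empty => simp
  | @insert j S hj ih =>
    have hS : ∀ i ∈ S, X i = 0 := by
      intro i hi
      obtain ⟨d, hd⟩ : ∃ d, f i d ≠ f j d := by
        by_contra hne
        push Not at hne
        have := hf i (Finset.mem_insert_of_mem hi) j (Finset.mem_insert_self j S)
          (MonoidHom.ext hne)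
        exact hj (this ▸ hi)
      have key := ih (fun a ha b hb => hf a (Finset.mem_insert_of_mem ha) b
        (Finset.mem_insert_of_mem hb)) (fun k => ι (f k d - f j d) * X k) (fun c => ?_) i hi
      · have hu : ι (f i d - f j d)⁻¹ * ι (f i d - f j d) = 1 := by
          rw [← map_mul, inv_mul_cancel₀ (sub_ne_zero.mpr hd), map_one]
        calc X i = ι (f i d - f j d)⁻¹ * (ι (f i d - f j d) * X i) := by
              rw [← mul_assoc, hu, one_mul]
          _ = 0 := by rw [key, mul_zero]
      · have h1 := h (c * d)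
        have h2 := congrArg (ι (f j d) * ·) (h c)
        simp only [Finset.sum_insert hj, mul_add, Finset.mul_sum, mul_zero] at h1 h2
        have h3 := congrArg₂ (· - ·) h1 h2
        simp only [sub_self] at h3
        rw [← h3, add_sub_add_comm,
          show ι (f j (c * d)) * X j - ι (f j d) * (ι (f j c) * X j) = 0 by
            rw [← mul_assoc, ← map_mul, ← map_mul, mul_comm d c, sub_self],
          zero_add, ← Finset.sum_sub_distrib]
        refine Finset.sum_congr rfl fun k _ => ?_
        rw [← mul_assoc, ← mul_assoc, ← map_mul, ← map_mul, ← sub_mul, ← map_sub, map_mul (f k) c d]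
        congr 2
        ring
    intro i hi
    rcases Finset.mem_insert.mp hi with rfl | hi
    · have h1 := h 1
      rw [Finset.sum_insert hj, Finset.sum_eq_zero (fun k hk => by rw [hS k hk, mul_zero]),
        map_one, map_one, one_mul, add_zero] at h1
      exact h1
    · exact hS i hi

theorem pow_apply_fixed {τ : F ≃+* F} {y : F} (h : τ y = y) : ∀ n : ℕ, (τ ^ n) y = y
  | 0 => rfl
  | n + 1 => by rw [pow_succ, RingAut.mul_apply, h, pow_apply_fixed h n]

theorem prod_shift (τ : F ≃+* F) (n : ℕ) (x : F) :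
    τ (∏ i ∈ Finset.range n, (τ ^ i) x) * x = (∏ i ∈ Finset.range n, (τ ^ i) x) * (τ ^ n) x := by
  rw [← Finset.prod_range_succ, Finset.prod_range_succ', pow_zero, map_prod]
  congr 1
  exact Finset.prod_congr rfl fun i _ => by rw [pow_succ', RingAut.mul_apply]

theorem sum_ne_zero_chars {τ : F ≃+* F} {s : ℕ}
    (hmin : ∀ i, 0 < i → i < s → ∃ x, (τ ^ i) x ≠ x) :
    ∀ i ∈ Finset.range s, ∀ j ∈ Finset.range s,
      ((τ ^ i : F ≃+* F).toRingHom.toMonoidHom) = (τ ^ j : F ≃+* F).toRingHom.toMonoidHom → i = j := by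
  intro i hi j hj h
  rw [Finset.mem_range] at hi hj
  wlog hle : i ≤ j generalizing i j
  · exact (this j hj i hi h.symm (le_of_not_ge hle)).symm
  by_contra hne
  obtain ⟨x, hx⟩ := hmin (j - i) (by omega) (by omega)
  apply hx
  have h1 : (τ ^ i) x = (τ ^ j) x := DFunLike.congr_fun h x
  rw [show j = i + (j - i) by omega, pow_add, RingAut.mul_apply] at h1
  exact ((τ ^ i).injective h1).symm

/-- Over a finite field, every element fixed by an automorphism of order `s` is a norm. -/
theorem exists_prod_eq [Finite F] (τ : F ≃+* F) {s : ℕ} (hs : 0 < s) (hτ : τ ^ s = 1)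
    (hmin : ∀ i, 0 < i → i < s → ∃ x, (τ ^ i) x ≠ x) {c : F} (hc : τ c = c) :
    ∃ x, ∏ i ∈ Finset.range s, (τ ^ i) x = c := by
  classical
  by_cases hc0 : c = 0
  · exact ⟨0, by rw [hc0]; exact Finset.prod_eq_zero (Finset.mem_range.mpr hs) (map_zero _)⟩
  let T : Fˣ →* Fˣ := Units.map (τ.toRingHom.toMonoidHom)
  let N : Fˣ →* Fˣ := ∏ i ∈ Finset.range s, Units.map ((τ ^ i : F ≃+* F).toRingHom.toMonoidHom)
  let D : Fˣ →* Fˣ :=
    { toFun := fun y => y / T y
      map_one' := by simp
      map_mul' := fun a b => by simp [mul_div_mul_comm] }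
  have hN : ∀ x : Fˣ, ((N x : Fˣ) : F) = ∏ i ∈ Finset.range s, (τ ^ i) (x : F) := by
    intro x
    simp only [N, MonoidHom.finsetProd_apply, Units.coe_prod, Units.coe_map]
    rfl
  have hT : ∀ x : Fˣ, ((T x : Fˣ) : F) = τ (x : F) := fun x => rfl
  have hfix : N.range ≤ D.ker := by
    rintro _ ⟨x, rfl⟩
    show N x / T (N x) = 1
    rw [div_eq_one, Units.ext_iff, hT, hN]
    refine (mul_right_cancel₀ (Units.ne_zero x) ?_).symm
    rw [prod_shift, hτ]
    rfl
  have hker : N.ker ≤ D.range := by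
    intro x hx
    have hNx : ∏ i ∈ Finset.range s, (τ ^ i) (x : F) = 1 := by
      rw [← hN, MonoidHom.mem_ker.mp hx]; rfl
    -- `Φ i y` is the `i`-th iterate of `y ↦ x * τ y`
    let Φ : ℕ → F → F := fun i y => (∏ j ∈ Finset.range i, (τ ^ j) (x : F)) * (τ ^ i) y
    obtain ⟨y, hy⟩ : ∃ y, ∑ i ∈ Finset.range s, Φ i y ≠ 0 := by
      by_contra hne
      push Not at hne
      have := eq_zero_of_sum_chars (RingHom.id F) (fun i => ((τ ^ i : F ≃+* F).toRingHom.toMonoidHom))
        (Finset.range s) (sum_ne_zero_chars hmin) (fun i => ∏ j ∈ Finset.range i, (τ ^ j) (x : F))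
        (fun y => by
          rw [← hne y]
          exact Finset.sum_congr rfl fun i _ => mul_comm _ _) 0 (Finset.mem_range.mpr hs)
      simp at this
    have hS : (x : F) * τ (∑ i ∈ Finset.range s, Φ i y) = ∑ i ∈ Finset.range s, Φ i y := by
      have step : ∀ i, (x : F) * τ (Φ i y) = Φ (i + 1) y := by
        intro i
        show (x : F) * τ (_ * _) = _
        rw [map_mul, ← mul_assoc, mul_comm (x : F), prod_shift, ← Finset.prod_range_succ]
        show _ * τ ((τ ^ i) y) = _ * (τ ^ (i + 1)) y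
        rw [pow_succ' τ i, RingAut.mul_apply]
      have h0 : Φ s y = Φ 0 y := by
        show _ * (τ ^ s) y = _ * (τ ^ 0) y
        rw [hNx, hτ]; simp
      rw [map_sum, Finset.mul_sum, Finset.sum_congr rfl (fun i _ => step i)]
      refine add_right_cancel (b := Φ 0 y) ?_
      calc _ = ∑ i ∈ Finset.range (s + 1), Φ i y := (Finset.sum_range_succ' (fun i => Φ i y) s).symm
        _ = _ := by rw [Finset.sum_range_succ, h0]
    refine ⟨Units.mk0 _ hy, ?_⟩
    show _ / T _ = x
    rw [div_eq_iff_eq_mul, Units.ext_iff, Units.val_mul, hT]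
    exact hS.symm
  have hcard : Nat.card D.ker ≤ Nat.card N.range := by
    have h1 := N.ker.card_mul_index
    have h2 := D.ker.card_mul_index
    rw [Subgroup.index_ker] at h1 h2
    have h3 : Nat.card N.ker ≤ Nat.card D.range :=
      Nat.card_le_card_of_injective _ (Subgroup.inclusion_injective hker)
    have h4 : 0 < Nat.card D.range := Nat.card_pos
    have h5 : Nat.card D.range * Nat.card D.ker ≤ Nat.card D.range * Nat.card N.range := by
      calc _ = Nat.card Fˣ := by rw [mul_comm]; exact h2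
        _ = Nat.card N.ker * Nat.card N.range := h1.symm
        _ ≤ _ := Nat.mul_le_mul_right _ h3
    exact Nat.le_of_mul_le_mul_left h5 h4
  have heq : N.range = D.ker :=
    Subgroup.eq_of_le_of_card_ge hfix hcard
  obtain ⟨x, hx⟩ : Units.mk0 c hc0 ∈ N.range := by
    rw [heq]
    show Units.mk0 c hc0 / T _ = 1
    rw [div_eq_one, Units.ext_iff, hT]
    exact hc.symm
  exact ⟨x, by rw [← hN, hx]; rfl⟩

section Semilinear

variable {R : Type*} [Ring R] (ι : F →+* R) {τ : F ≃+* F} {U : R}

/-- `U` is semilinear with respect to `τ`. -/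
def Semilin (τ : F ≃+* F) (U : R) : Prop := ∀ c : F, U * ι c = ι (τ c) * U

theorem Semilin.pow (h : Semilin ι τ U) : ∀ n : ℕ, Semilin ι (τ ^ n) (U ^ n)
  | 0, c => by simp [RingAut.one_apply]
  | n + 1, c => by
    rw [pow_succ, mul_assoc, h c, ← mul_assoc, Semilin.pow h n (τ c), mul_assoc, pow_succ τ n,
      RingAut.mul_apply]

theorem Semilin.mul_pow (h : Semilin ι τ U) (x : F) : ∀ n : ℕ,
    (ι x * U) ^ n = ι (∏ i ∈ Finset.range n, (τ ^ i) x) * U ^ n
  | 0 => by simp
  | n + 1 => by
    rw [pow_succ, Semilin.mul_pow h x n, mul_assoc, ← mul_assoc (U ^ n), Semilin.pow ι h n x,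
      mul_assoc, ← pow_succ, Finset.prod_range_succ, map_mul, mul_assoc]

/-- An eigenvalue of `U ^ s` gives one of `U`. -/
theorem exists_eigen [Finite F] (h : Semilin ι τ U) {s : ℕ} (hs : 0 < s) (hτ : τ ^ s = 1)
    (hmin : ∀ i, 0 < i → i < s → ∃ x, (τ ^ i) x ≠ x) {μ : F} (hμ : τ μ = μ) (hμ0 : μ ≠ 0)
    {V : R} (hV : V ≠ 0) (hUV : U ^ s * V = ι μ * V) :
    ∃ (y : F) (Z : R), y ≠ 0 ∧ Z ≠ 0 ∧ U * Z = ι y * Z := by
  obtain ⟨y, hy⟩ := exists_prod_eq τ hs hτ hmin hμ
  have hy0 : y ≠ 0 := by
    rintro rfl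
    exact hμ0 (by rw [← hy]; exact Finset.prod_eq_zero (Finset.mem_range.mpr hs) (map_zero _))
  set U' := ι y⁻¹ * U with hU'
  have hU's : U' ^ s * V = V := by
    rw [hU', h.mul_pow, Finset.prod_congr rfl (fun i _ => map_inv₀ (τ ^ i) y),
      Finset.prod_inv_distrib, hy, mul_assoc, hUV, ← mul_assoc, ← map_mul, inv_mul_cancel₀ hμ0,
      map_one, one_mul]
  have hsl : Semilin ι τ U' := fun c => by
    rw [hU', mul_assoc, h c, ← mul_assoc, ← map_mul, mul_comm, map_mul, mul_assoc]
  obtain ⟨c, hc⟩ : ∃ c : F, ∑ i ∈ Finset.range s, U' ^ i * (ι c * V) ≠ 0 := by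
    by_contra hne
    push Not at hne
    refine hV ?_
    have := eq_zero_of_sum_chars ι (fun i => ((τ ^ i : F ≃+* F).toRingHom.toMonoidHom))
      (Finset.range s) (sum_ne_zero_chars hmin) (fun i => U' ^ i * V)
      (fun c => by
        rw [← hne c]
        refine Finset.sum_congr rfl fun i _ => ?_
        rw [← mul_assoc (U' ^ i), Semilin.pow ι hsl i c, mul_assoc]
        rfl) 0 (Finset.mem_range.mpr hs)
    simpa using this
  refine ⟨y, _, hy0, hc, ?_⟩
  have hfix : U' * (∑ i ∈ Finset.range s, U' ^ i * (ι c * V)) =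
      ∑ i ∈ Finset.range s, U' ^ i * (ι c * V) := by
    have h0 : U' ^ s * (ι c * V) = U' ^ 0 * (ι c * V) := by
      rw [← mul_assoc, Semilin.pow ι hsl s c, hτ, RingAut.one_apply, mul_assoc, hU's, pow_zero,
        one_mul]
    rw [Finset.mul_sum]
    refine add_right_cancel (b := U' ^ 0 * (ι c * V)) ?_
    calc _ = ∑ i ∈ Finset.range s, U' ^ (i + 1) * (ι c * V) + U' ^ 0 * (ι c * V) := by
          simp only [← mul_assoc, ← pow_succ']
      _ = ∑ i ∈ Finset.range (s + 1), U' ^ i * (ι c * V) :=
          (Finset.sum_range_succ' (fun i => U' ^ i * (ι c * V)) s).symm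
      _ = _ := by rw [Finset.sum_range_succ, h0]
  have hUU' : U = ι y * U' := by
    rw [hU', ← mul_assoc, ← map_mul, mul_inv_cancel₀ hy0, map_one, one_mul]
  rw [hUU', mul_assoc, hfix]

end Semilinear

end CfsgLib.Jordan.InvClosed
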