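import Mathlib
import Cfsg.Agent.Lib.Jordan.InvClosedBasic
import Cfsg.Agent.Lib.Jordan.InvClosedSemilinear

/-!
An additive subgroup of a finite ring of characteristic two which contains `1`, consists of units and
zero and is closed under inverses is commutative (a finite special Jordan division algebra is a field).

Proof: a maximal subfield inside, the semilinear components with respect to it come in pairs
`σ, σ⁻¹`, and each pair gives a singular element.
-/

set_option autoImplicit false
set_option linter.style.haveILetI false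
set_option linter.unusedSectionVars false

namespace CfsgLib.Jordan.InvClosed

variable {R : Type*} [Ring R] [Finite R] {E : AddSubgroup R}

/-- A maximal subfield inside `E` with a generator of its multiplicative group. -/
structure Maxl (E : AddSubgroup R) {F : Type*} [Field F] (ι : F →+* R) (a : F) : Prop where
  mem : ∀ x, ι x ∈ E
  max : ∀ x ∈ E, x * ι a = ι a * x → ∃ c, ι c = x
  gen : ∀ x : F, x ≠ 0 → ∃ n : ℕ, x = a ^ n
  ne : a ≠ 0

section Maximal

variable {F : Type*} [Field F] [Finite F] {ι : F →+* R} {a : F}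
variable (h : Hyp E) (hk : Maxl E ι a)
include h hk

theorem iota_inj : Function.Injective ι := by
  haveI : Nontrivial R := ⟨⟨1, 0, h.nontrivial⟩⟩
  exact ι.injective

theorem charF (x : F) : x + x = 0 := iota_inj h hk (by rw [map_add, h.add_self, map_zero])

theorem ext_of_gen {f g : F →+* F} (e : f a = g a) : f = g := by
  ext x
  by_cases hx : x = 0
  · rw [hx, map_zero, map_zero]
  · obtain ⟨n, rfl⟩ := hk.gen x hx
    rw [map_pow, map_pow, e]

theorem aut_ext {f g : F ≃+* F} (e : f a = g a) : f = g :=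
  RingEquiv.toRingHom_injective (ext_of_gen h hk (f := f.toRingHom) (g := g.toRingHom) e)

theorem commute_all {x : R} (e : x * ι a = ι a * x) (c : F) : x * ι c = ι c * x := by
  by_cases hc : c = 0
  · rw [hc, map_zero, mul_zero, zero_mul]
  · obtain ⟨n, rfl⟩ := hk.gen c hc
    rw [map_pow]
    exact (Commute.pow_right (show Commute x (ι a) from e) n)

theorem scalar_eq_zero {c : F} {x : R} (hx : x ≠ 0) (e : ι c * x = 0) : c = 0 := by
  by_contra hc
  refine hx ?_
  rw [← one_mul x, ← map_one ι, ← inv_mul_cancel₀ hc, map_mul, mul_assoc, e, mul_zero]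

theorem exists_sqrtF (c : F) : ∃ r : F, r * r = c := by
  have hinj : Function.Injective (fun x : F => x * x) := by
    intro x y e
    have e' : x * x = y * y := e
    have h1 : (x + y) * (x + y) = 0 := by
      rw [add_mul, mul_add, mul_add, e', mul_comm y x, add_assoc, ← add_assoc (x * y),
        charF h hk, zero_add, charF h hk]
    have h2 : x + y = 0 := by simpa using h1
    linear_combination h2 - charF h hk y
  exact (Finite.injective_iff_surjective.mp hinj) c

theorem sq_eq {x y : F} (e : x * x = y * y) : x = y := by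
  have h1 : (x + y) * (x + y) = 0 := by
    linear_combination e + charF h hk (x * y) + charF h hk (y * y)
  have h2 : x + y = 0 := by simpa using h1
  linear_combination h2 - charF h hk y

/-- An element intertwining the square of `a` with the square of `c` intertwines `a` with `c`. -/
theorem inter_of_sq {x : R} {c : F} (e : x * ι (a * a) = ι (c * c) * x) : x * ι a = ι c * x := by
  obtain ⟨r, hr⟩ := exists_sqrtF h hk a
  have hr0 : r ≠ 0 := by rintro rfl; exact hk.ne (by rw [← hr, mul_zero])
  obtain ⟨n, hn⟩ := hk.gen r hr0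
  have hn2 : a = (a * a) ^ n := by rw [mul_pow, ← hn, hr]
  have key : ∀ n : ℕ, x * ι ((a * a) ^ n) = ι ((c * c) ^ n) * x := by
    intro n
    induction n with
    | zero => simp
    | succ n ih =>
      rw [pow_succ, pow_succ, map_mul ι ((a * a) ^ n), map_mul ι ((c * c) ^ n), ← mul_assoc, ih,
        mul_assoc, e, mul_assoc]
  have h3 := key n
  rw [← hn2] at h3
  rw [h3]
  -- compare with the map transporting `a`
  by_cases hx : x = 0
  · rw [hx, mul_zero, mul_zero]
  have h4 : x * ι (a * a) = ι ((c * c) ^ n * (c * c) ^ n) * x := by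
    rw [map_mul, map_mul, ← mul_assoc, h3, mul_assoc, h3, mul_assoc]
  have h5 : c * c = (c * c) ^ n * (c * c) ^ n := by
    have : ι (c * c - (c * c) ^ n * (c * c) ^ n) * x = 0 := by
      rw [map_sub, sub_mul, ← e, h4, sub_self]
    exact sub_eq_zero.mp (scalar_eq_zero h hk hx this)
  exact (congrArg (fun z => ι z * x) (sq_eq h hk h5)).symm

/-- An element intertwining two elements, one of them the generator, is semilinear. -/
theorem exists_aut {x : R} (hx : x ≠ 0) {c d : F} (e : x * ι c = ι d * x) (hcd : c = a ∨ d = a) :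
    ∃ σ : F ≃+* F, Semilin ι σ x ∧ σ c = d := by
  classical
  have huniq : ∀ {p q q' : F}, x * ι p = ι q * x → x * ι p = ι q' * x → q = q' := by
    intro p q q' e1 e2
    refine sub_eq_zero.mp (scalar_eq_zero h hk hx ?_)
    rw [map_sub, sub_mul, ← e1, ← e2, sub_self]
  let T : Subring F :=
    { carrier := {p | ∃ q, x * ι p = ι q * x}
      mul_mem' := by
        rintro p p' ⟨q, hq⟩ ⟨q', hq'⟩
        exact ⟨q * q', by rw [map_mul, map_mul, ← mul_assoc, hq, mul_assoc, hq', mul_assoc]⟩
      one_mem' := ⟨1, by simp⟩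
      add_mem' := by
        rintro p p' ⟨q, hq⟩ ⟨q', hq'⟩
        exact ⟨q + q', by rw [map_add, map_add, mul_add, add_mul, hq, hq']⟩
      zero_mem' := ⟨0, by simp⟩
      neg_mem' := by
        rintro p ⟨q, hq⟩
        exact ⟨-q, by rw [map_neg, map_neg, mul_neg, neg_mul, hq]⟩ }
  let φ : T → F := fun p => p.2.choose
  have hφ : ∀ p : T, x * ι (p : F) = ι (φ p) * x := fun p => p.2.choose_spec
  let f : T →+* F :=
    { toFun := φ
      map_one' := huniq (hφ 1) (by simp)
      map_zero' := huniq (hφ 0) (by simp)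
      map_mul' := fun p q => huniq (hφ _) (by
        rw [Subring.coe_mul, map_mul, ← mul_assoc, hφ p, mul_assoc, hφ q, map_mul, mul_assoc])
      map_add' := fun p q => huniq (hφ _) (by
        rw [Subring.coe_add, map_add, mul_add, hφ p, hφ q, map_add, add_mul]) }
  have hc : c ∈ T := ⟨d, e⟩
  have hfc : f ⟨c, hc⟩ = d := huniq (hφ _) e
  have hT : T = ⊤ := by
    rcases hcd with rfl | rfl
    · refine (Subring.eq_top_iff' T).mpr fun p => ?_
      by_cases hp : p = 0
      · rw [hp]; exact T.zero_mem
      · obtain ⟨n, rfl⟩ := hk.gen p hp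
        exact T.pow_mem hc n
    · have hsurj : Function.Surjective f := by
        intro p
        by_cases hp : p = 0
        · exact ⟨0, by rw [map_zero, hp]⟩
        · obtain ⟨n, rfl⟩ := hk.gen p hp
          exact ⟨⟨c, hc⟩ ^ n, by rw [map_pow, hfc]⟩
      haveI := Fintype.ofFinite F
      apply SetLike.coe_injective
      rw [Subring.coe_top]
      refine Set.eq_of_subset_of_ncard_le (Set.subset_univ _) ?_ (Set.toFinite _)
      rw [Set.ncard_univ, ← Nat.card_coe_set_eq]
      exact Nat.card_le_card_of_surjective f hsurj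
  let g : F →+* F := f.comp ((RingHom.id F).codRestrict T (fun p => by rw [hT]; trivial))
  have hg : Function.Bijective g :=
    Finite.injective_iff_bijective.mp g.injective
  refine ⟨RingEquiv.ofBijective g hg, fun p => ?_, ?_⟩
  · exact hφ ⟨p, _⟩
  · exact hfc

/-- Squaring an intertwiner with itself shows it intertwines. -/
theorem inter_of_twice {x : R} {c : F}
    (e : (x * ι a + ι c * x) * ι a + ι c * (x * ι a + ι c * x) = 0) : x * ι a + ι c * x = 0 := by
  have h1 : x * ι (a * a) + ι (c * c) * x = 0 := by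
    rw [← e, map_mul, map_mul, add_mul, mul_add, ← mul_assoc, ← mul_assoc (ι c) (ι c) x,
      ← mul_assoc (ι c) x (ι a), add_assoc (x * ι a * ι a), ← add_assoc (ι c * x * ι a),
      h.add_self, zero_add]
  rw [inter_of_sq h hk (h.eq_of_add_eq_zero h1), h.add_self]

/-- `g_c`: for `c = a ^ j`. It preserves `E`. -/
theorem gen_op_mem {x : R} (hx : x ∈ E) (j : ℕ) :
    (x * ι a + ι (a ^ j) * x) * ι (a ^ j) + ι a * (x * ι a + ι (a ^ j) * x) ∈ E := by
  have h1 := E.add_mem (h.anti_mem (hk.mem (a ^ (j + 1))) hx)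
    (E.add_mem (h.mul_mul (hk.mem (a ^ j)) hx) (h.mul_mul (hk.mem a) hx))
  convert h1 using 1
  simp only [pow_succ, add_mul, mul_add]
  have e1 : ι (a ^ j * a) * x = ι a * (ι (a ^ j) * x) := by
    rw [← mul_assoc, ← map_mul, mul_comm a]
  have e2 : x * ι (a ^ j * a) = x * ι a * ι (a ^ j) := by
    rw [mul_assoc, ← map_mul, mul_comm a]
  rw [e1, e2, mul_assoc (ι a) x (ι a)]
  abel

section Operators

/-- Operators `L` and `R`. -/
theorem prod_zero (x : R) :
    let P : ℕ → R → R := fun j y =>
      (y * ι a + ι (a ^ j) * y) * ι (a ^ j) + ι a * (y * ι a + ι (a ^ j) * y)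
    let G : ℕ → R → R := fun n => Nat.rec id (fun j g => P j ∘ g) n
    ∃ N : ℕ, G N x = 0 := by
  classical
  intro P G
  haveI := Fintype.ofFinite F
  let L : AddMonoid.End R := AddMonoidHom.mulLeft (ι a)
  let Rr : AddMonoid.End R := AddMonoidHom.mulRight (ι a)
  let Lh : F →+* AddMonoid.End R :=
    { toFun := fun c => AddMonoidHom.mulLeft (ι c)
      map_one' := AddMonoidHom.ext fun y => show ι 1 * y = y by rw [map_one, one_mul]
      map_zero' := AddMonoidHom.ext fun y => show ι 0 * y = 0 by rw [map_zero, zero_mul]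
      map_mul' := fun c d => AddMonoidHom.ext fun y =>
        show ι (c * d) * y = ι c * (ι d * y) by rw [map_mul, mul_assoc]
      map_add' := fun c d => AddMonoidHom.ext fun y =>
        show ι (c + d) * y = ι c * y + ι d * y by rw [map_add, add_mul] }
  have hLh : ∀ c y, Lh c y = ι c * y := fun c y => rfl
  have hLR : ∀ c, Lh c * Rr = Rr * Lh c := fun c => by
    refine AddMonoidHom.ext fun y => ?_
    show ι c * (y * ι a) = (ι c * y) * ι a
    rw [mul_assoc]
  set N := Fintype.card F - 1 with hN
  have hord : orderOf a = N := by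
    have haN : a ^ N = 1 := FiniteField.pow_card_sub_one_eq_one a hk.ne
    refine le_antisymm (orderOf_le_of_pow_eq_one (by have := Fintype.one_lt_card (α := F); omega) haN) ?_
    have hfin : IsOfFinOrder a := isOfFinOrder_iff_pow_eq_one.mpr
      ⟨N, by have := Fintype.one_lt_card (α := F); omega, haN⟩
    have hsub : (Finset.univ.erase (0 : F)) ⊆ (Finset.range (orderOf a)).image (fun n => a ^ n) := by
      intro y hy
      obtain ⟨n, rfl⟩ := hk.gen y (Finset.ne_of_mem_erase hy)
      exact Finset.mem_image.mpr ⟨n % orderOf a, Finset.mem_range.mpr (Nat.mod_lt _ hfin.orderOf_pos),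
        pow_mod_orderOf a n⟩
    have := (Finset.card_le_card hsub).trans Finset.card_image_le
    rwa [Finset.card_erase_of_mem (Finset.mem_univ _), Finset.card_univ, Finset.card_range] at this
  have hprim : IsPrimitiveRoot a N := hord ▸ IsPrimitiveRoot.orderOf a
  let ev : Polynomial F →+* AddMonoid.End R := Polynomial.eval₂RingHom' Lh Rr hLR
  have hev : ∀ c y, ev (Polynomial.X - Polynomial.C c) y = y * ι a + ι c * y := by
    intro c y
    simp only [ev, Polynomial.eval₂RingHom', RingHom.coe_mk, MonoidHom.coe_mk, OneHom.coe_mk,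
      map_sub, Polynomial.eval₂_sub, Polynomial.eval₂_X, Polynomial.eval₂_C]
    show y * ι a - ι c * y = _
    rw [h.sub_eq]
  -- the first factor
  have hA : ev (∏ j ∈ Finset.range N, (Polynomial.X - Polynomial.C (a ^ j))) = 0 := by
    have hprod : (∏ j ∈ Finset.range N, (Polynomial.X - Polynomial.C (a ^ j))) =
        (Polynomial.X : Polynomial F) ^ N - 1 := by
      have hN0 : 0 < N := by have := Fintype.one_lt_card (α := F); omega
      haveI : NeZero N := ⟨hN0.ne'⟩
      rw [Polynomial.X_pow_sub_one_eq_prod hN0 hprim]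
      refine (Finset.prod_image (s := Finset.range N) (g := fun j => a ^ j)
        (f := fun z => Polynomial.X - Polynomial.C z) ?_).symm.trans ?_
      · intro i hi j hj e
        exact hprim.pow_inj (Finset.mem_range.mp hi) (Finset.mem_range.mp hj) e
      · refine Finset.prod_congr ?_ (fun _ _ => rfl)
        ext z
        rw [Finset.mem_image, Polynomial.mem_nthRootsFinset hN0]
        constructor
        · rintro ⟨i, -, rfl⟩
          rw [← pow_mul, mul_comm, pow_mul, hprim.pow_eq_one, one_pow]
        · intro hz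
          obtain ⟨i, hi, hi'⟩ := hprim.eq_pow_of_pow_eq_one hz
          exact ⟨i, Finset.mem_range.mpr hi, hi'⟩
    rw [hprod, map_sub, map_one, map_pow, sub_eq_zero]
    have hX : ev Polynomial.X = Rr := Polynomial.eval₂_X _ _
    rw [hX]
    have hpow : ∀ (n : ℕ) (y : R), (Rr ^ n) y = y * ι (a ^ n) := by
      intro n
      induction n with
      | zero => intro y; simp
      | succ n ih =>
        intro y
        rw [pow_succ', AddMonoid.End.coe_mul]
        show (Rr ^ n) y * ι a = _
        rw [ih, mul_assoc, ← map_mul, ← pow_succ]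
    refine AddMonoidHom.ext fun y => ?_
    exact (hpow N y).trans (by rw [hprim.pow_eq_one, map_one, mul_one]; rfl)
  -- the iterate factors as `(second factor) ∘ (first factor)`
  let B : ℕ → R → R := fun n => Nat.rec id (fun j g y => g y * ι (a ^ j) + ι a * g y) n
  have hBlin : ∀ n y c, B n (y * ι a + ι c * y) = B n y * ι a + ι c * B n y := by
    intro n
    induction n with
    | zero => intro y c; rfl
    | succ n ih =>
      intro y c
      show B n (y * ι a + ι c * y) * ι (a ^ n) + ι a * B n (y * ι a + ι c * y) =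
        (B n y * ι (a ^ n) + ι a * B n y) * ι a + ι c * (B n y * ι (a ^ n) + ι a * B n y)
      rw [ih]
      have e1 : ι a * ι (a ^ n) = ι (a ^ n) * ι a := by rw [← map_mul, ← map_mul, mul_comm]
      have e2 : ι a * ι c = ι c * ι a := by rw [← map_mul, ← map_mul, mul_comm]
      simp only [add_mul, mul_add, mul_assoc, e1]
      rw [← mul_assoc (ι a) (ι c), e2, mul_assoc]
      abel
  have hG : ∀ n, G n x = B n (ev (∏ j ∈ Finset.range n, (Polynomial.X - Polynomial.C (a ^ j))) x) := by
    intro n
    induction n with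
    | zero => simp [G, B]
    | succ n ih =>
      have : G (n + 1) x = P n (G n x) := rfl
      rw [this, ih, Finset.prod_range_succ, mul_comm, map_mul, AddMonoid.End.coe_mul,
        Function.comp_apply, hev]
      show _ = B n _ * ι (a ^ n) + ι a * B n _
      rw [hBlin]
  refine ⟨N, ?_⟩
  rw [hG, hA]
  have hB0 : ∀ n, B n 0 = 0 := by
    intro n
    induction n with
    | zero => rfl
    | succ n ih => show B n 0 * _ + _ * B n 0 = 0; rw [ih]; simp
  exact hB0 N

end Operators

/-- A pair of semilinear components. -/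
structure Pair (σ : F ≃+* F) (u w : R) : Prop where
  semu : Semilin ι σ u
  semw : Semilin ι σ.symm w

theorem indep {σ : F ≃+* F} {u w : R} (hp : Pair (ι := ι) σ u w) (hσ : σ (σ a) ≠ a) {p q : F}
    (e : ι p * u + ι q * w = 0) : ι p * u = 0 ∧ ι q * w = 0 := by
  have e2 := congrArg (· * ι a) e
  simp only [add_mul, mul_assoc, hp.semu a, hp.semw a, zero_mul] at e2
  have e3 := congrArg (ι (σ.symm a) * ·) e
  simp only [mul_add, mul_zero] at e3
  have e4 : ι (σ.symm a + σ a) * (ι p * u) = 0 := by
    have := congrArg₂ (· + ·) e2 e3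
    simp only [add_zero] at this
    rw [← mul_assoc (ι q), ← map_mul ι q, mul_comm q, map_mul, mul_assoc, add_add_add_comm,
      add_comm _ (ι (σ.symm a) * (ι q * w)), h.add_self, add_zero] at this
    rw [map_add, add_mul, ← this, add_comm, ← mul_assoc (ι (σ a)), ← map_mul, mul_comm (σ a),
      map_mul, mul_assoc]
  have hne : σ.symm a + σ a ≠ 0 := by
    intro e5
    apply hσ
    have e6 : σ.symm a = σ a := by linear_combination e5 - charF h hk (σ a)
    rw [← e6, σ.apply_symm_apply]
  have h5 : ι p * u = 0 := by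
    by_contra hne'
    exact hne (scalar_eq_zero h hk hne' e4)
  exact ⟨h5, by rwa [h5, zero_add] at e⟩

theorem symm_sq_ne {σ : F ≃+* F} (hσ : σ (σ a) ≠ a) : σ.symm (σ.symm a) ≠ a := fun e =>
  hσ (by
    conv_lhs => rw [← e]
    rw [σ.apply_symm_apply, σ.apply_symm_apply])

/-- A common eigenvector of a pair yields a singular element. -/
theorem false_of_eigen {σ : F ≃+* F} {u w : R} (hp : Pair (ι := ι) σ u w) (hb : u + w ∈ E)
    (hu : u ≠ 0) (hσ : σ (σ a) ≠ a) {Z : R} (hZ : Z ≠ 0) {y y' : F}
    (e1 : u * Z = ι y * Z) (e2 : w * Z = ι y' * Z) : False := by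
  have hsing : (u + w + ι (y + y')) * Z = 0 := by
    rw [add_mul, add_mul, e1, e2, map_add, add_mul, h.add_self]
  have hbk : u + w + ι (y + y') = 0 := by
    by_contra hne
    exact hZ (h.mul_eq_zero_left (E.add_mem hb (hk.mem _)) hne hsing)
  have hbk' : u + w = ι (y + y') := h.eq_of_add_eq_zero hbk
  have e3 : ι (σ a + a) * u + ι (σ.symm a + a) * w = 0 := by
    rw [map_add, map_add, add_mul, add_mul, ← hp.semu, ← hp.semw, add_add_add_comm, ← add_mul,
      ← mul_add, hbk', ← map_mul, ← map_mul, mul_comm, h.add_self]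
  have := scalar_eq_zero h hk hu (indep h hk hp hσ e3).1
  apply hσ
  have e6 : σ a = a := by linear_combination this - charF h hk a
  rw [e6, e6]

/-- No pure semilinear element in `E`. -/
theorem pure_false {σ : F ≃+* F} {u : R} (hu : u ∈ E) (hu0 : u ≠ 0) (hs : Semilin ι σ u)
    (hσ : σ a ≠ a) : False := by
  haveI : Finite (F ≃+* F) := Finite.of_injective (fun f => (f : F → F)) DFunLike.coe_injective
  set s := orderOf σ with hsdef
  have hs0 : 0 < s := (isOfFinOrder_of_finite σ).orderOf_pos
  have hτ : σ ^ s = 1 := pow_orderOf_eq_one σ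
  have hcomm : u ^ s * ι a = ι a * u ^ s := by
    rw [Semilin.pow ι hs s a, hτ, RingAut.one_apply]
  obtain ⟨γ, hγ⟩ := hk.max _ (h.pow_mem hu s) hcomm
  have hγ0 : γ ≠ 0 := by
    rintro rfl
    rw [map_zero] at hγ
    have : ∀ n, u ^ n ≠ 0 := by
      intro n
      induction n with
      | zero => rw [pow_zero]; exact h.nontrivial
      | succ n ih => rw [pow_succ']; exact fun e => ih (h.mul_eq_zero_left hu hu0 e)
    exact this s hγ.symm
  have hfix : σ γ = γ := by
    refine sub_eq_zero.mp (scalar_eq_zero h hk hu0 ?_)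
    rw [map_sub, sub_mul, ← hs γ, hγ, ← pow_succ, ← pow_succ', sub_self]
  have hmin : ∀ i, 0 < i → i < s → ∃ x, (σ ^ i) x ≠ x := by
    intro i hi his
    by_contra hne
    push Not at hne
    exact (Nat.not_le.mpr his) (orderOf_le_of_pow_eq_one hi (RingEquiv.ext hne))
  obtain ⟨y, Z, hy, hZ, he⟩ := exists_eigen ι hs hs0 hτ hmin hfix hγ0 (V := (1 : R))
    h.nontrivial (by rw [mul_one, mul_one, hγ])
  have hsing : u + ι y = 0 := by
    by_contra hne
    refine hZ (h.mul_eq_zero_left (E.add_mem hu (hk.mem y)) hne ?_)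
    rw [add_mul, he, h.add_self]
  apply hσ
  refine sub_eq_zero.mp (scalar_eq_zero h hk hu0 ?_)
  rw [map_sub, sub_mul, ← hs a, h.eq_of_add_eq_zero hsing, ← map_mul, ← map_mul, mul_comm, sub_self]

/-- A non-commuting element gives a pair. -/
theorem exists_pair {b : R} (hb : b ∈ E) (hba : b * ι a ≠ ι a * b) :
    ∃ (σ : F ≃+* F) (u w : R), Pair (ι := ι) σ u w ∧ σ (σ a) ≠ a ∧ u ≠ 0 ∧ w ≠ 0 ∧ u + w ∈ E := by
  classical
  -- start in the image of `S`
  set Z0 := b * ι a + ι a * b with hZ0
  have hZ0E : Z0 ∈ E := h.anti_mem hb (hk.mem a)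
  have hZ00 : Z0 ≠ 0 := fun e => hba (h.eq_of_add_eq_zero e)
  set P : ℕ → R → R := fun j y =>
    (y * ι a + ι (a ^ j) * y) * ι (a ^ j) + ι a * (y * ι a + ι (a ^ j) * y) with hP
  set G : ℕ → R → R := fun n => Nat.rec id (fun j g => P j ∘ g) n with hG
  obtain ⟨N, hN⟩ := prod_zero h hk Z0
  have hex : ∃ n, G n Z0 = 0 := ⟨N, hN⟩
  obtain ⟨j, hj⟩ : ∃ j, Nat.find hex = j + 1 := by
    refine ⟨Nat.find hex - 1, ?_⟩
    have : Nat.find hex ≠ 0 := fun e => hZ00 (by have := Nat.find_spec hex; rwa [e] at this)
    omega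
  have hlast : P j (G j Z0) = 0 := by
    have := Nat.find_spec hex
    rwa [hj] at this
  have hb1 : G j Z0 ≠ 0 := Nat.find_min hex (by omega)
  have hGE : ∀ n, G n Z0 ∈ E ∧ ∃ z ∈ E, G n Z0 = z * ι a + ι a * z := by
    intro n
    induction n with
    | zero => exact ⟨hZ0E, b, hb, rfl⟩
    | succ n ih =>
      obtain ⟨h1, z, hz, hzz⟩ := ih
      refine ⟨gen_op_mem h hk h1 n, P n z, gen_op_mem h hk hz n, ?_⟩
      show P n (G n Z0) = _
      rw [hzz]
      simp only [hP]
      have e1 : ι a * ι (a ^ n) = ι (a ^ n) * ι a := by rw [← map_mul, ← map_mul, mul_comm]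
      simp only [add_mul, mul_add, mul_assoc, e1]
      simp only [← mul_assoc, e1]
      abel
  obtain ⟨hb1E, z1, hz1, hz1e⟩ := hGE j
  set b1 := G j Z0
  set c := a ^ j with hc
  set y := b1 * ι a + ι c * b1 with hy
  have hyc : y * ι c + ι a * y = 0 := hlast
  have hca : c ≠ a := by
    intro e
    rw [e] at hy hyc
    have h2' := inter_of_twice h hk (x := b1) (c := a) (by rw [← hy]; exact hyc)
    have h2 : y = 0 := by rw [hy]; exact h2'
    have h3 : z1 * ι a + ι a * z1 = 0 := by
      refine inter_of_twice h hk (x := z1) (c := a) ?_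
      rw [← hz1e, ← hy, h2]
    exact hb1 (by rw [hz1e, h3])
  by_cases hy0 : y = 0
  · -- pure
    obtain ⟨σ, hs, hσc⟩ := exists_aut h hk hb1 (h.eq_of_add_eq_zero hy0) (Or.inl rfl)
    exact (pure_false h hk hb1E hb1 hs (by rw [hσc]; exact hca)).elim
  · obtain ⟨ρ, hρ, hρc⟩ := exists_aut h hk hy0 (h.eq_of_add_eq_zero hyc) (Or.inr rfl)
    set d := ρ a with hd
    have hdc : d ≠ c := by
      intro e
      apply hy0
      refine inter_of_twice h hk (x := b1) (c := c) ?_
      rw [← hy, hρ a, ← hd, e, h.add_self]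
    have hcd0 : c + d ≠ 0 := fun e => hdc (by linear_combination e - charF h hk c)
    set z := b1 * ι a + ι d * b1 with hz
    set ε := (c + d)⁻¹
    have hsum : ι ε * z + ι ε * y = b1 := by
      rw [← mul_add, hz, hy, add_add_add_comm, h.add_self, zero_add, ← add_mul, ← map_add,
        ← mul_assoc, ← map_mul, add_comm d, inv_mul_cancel₀ hcd0, map_one, one_mul]
    have hza : z * ι a + ι c * z = 0 := by
      have e1 : z * ι a + ι c * z = y * ι a + ι d * y := by
        have e2 : ι c * (ι d * b1) = ι d * (ι c * b1) := by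
          rw [← mul_assoc, ← mul_assoc, ← map_mul, ← map_mul, mul_comm]
        simp only [hy, hz, add_mul, mul_add, e2]
        simp only [mul_assoc]
        abel
      rw [e1, hρ a, ← hd, h.add_self]
    have hw0 : ι ε * y ≠ 0 := fun e => (inv_ne_zero hcd0) (scalar_eq_zero h hk hy0 e)
    have hsemw : Semilin ι ρ (ι ε * y) := fun p => by
      rw [mul_assoc, hρ p, ← mul_assoc, ← map_mul, mul_comm, map_mul, mul_assoc]
    have hσc : ρ.symm a = c := by rw [← hρc, ρ.symm_apply_apply]
    by_cases hu0 : ι ε * z = 0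
    · rw [hu0, zero_add] at hsum
      refine (pure_false h hk (hsum ▸ hb1E) hw0 hsemw ?_).elim
      intro e
      exact hca (by rw [← hσc]; nth_rw 1 [← e]; rw [ρ.symm_apply_apply])
    have hua : (ι ε * z) * ι a = ι c * (ι ε * z) := by
      rw [mul_assoc, h.eq_of_add_eq_zero hza, ← mul_assoc, ← map_mul, mul_comm, map_mul, mul_assoc]
    obtain ⟨σ, hs, hσa⟩ := exists_aut h hk hu0 hua (Or.inl rfl)
    have hσρ : σ = ρ.symm := aut_ext h hk (by rw [hσa, hσc])
    refine ⟨σ, ι ε * z, ι ε * y, ⟨hs, ?_⟩, ?_, hu0, hw0, ?_⟩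
    · rw [hσρ, RingEquiv.symm_symm]; exact hsemw
    · rw [hσρ]
      intro e
      apply hdc
      rw [hd, ← hσc]
      conv_lhs => rw [← e]
      rw [ρ.apply_symm_apply]
    · rw [hsum]; exact hb1E

/-- Scalars of a pair: `z • (u, w) = (z u, σ⁻¹(z) w)` stays in `E`. -/
theorem scale_mem {σ : F ≃+* F} (hσ : σ (σ a) ≠ a) {u w : R} (hp : Pair (ι := ι) σ u w)
    (hb : u + w ∈ E) (z : F) : ι z * u + ι (σ.symm z) * w ∈ E := by
  classical
  haveI := Fintype.ofFinite F
  let Z : Subring F :=
    { carrier := {z | ∀ u w : R, Pair (ι := ι) σ u w → u + w ∈ E → ι z * u + ι (σ.symm z) * w ∈ E}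
      mul_mem' := by
        intro p q hp' hq' u w hpr hE
        have := hp' (ι q * u) (ι (σ.symm q) * w)
          ⟨fun c => by rw [mul_assoc, hpr.semu c, ← mul_assoc, ← map_mul, mul_comm, map_mul, mul_assoc],
           fun c => by rw [mul_assoc, hpr.semw c, ← mul_assoc, ← map_mul, mul_comm, map_mul, mul_assoc]⟩
          (hq' u w hpr hE)
        rw [map_mul ι p q, map_mul σ.symm p q, map_mul ι (σ.symm p), mul_assoc, mul_assoc]
        exact this
      one_mem' := fun u w _ hE => by simpa using hE
      add_mem' := by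
        intro p q hp' hq' u w hpr hE
        have := E.add_mem (hp' u w hpr hE) (hq' u w hpr hE)
        rw [map_add ι p q, map_add σ.symm p q, map_add ι (σ.symm p), add_mul, add_mul]
        convert this using 1
        abel
      zero_mem' := fun u w _ _ => by simp
      neg_mem' := by
        intro p hp' u w hpr hE
        have : -p = p := by linear_combination -(charF h hk p)
        rw [this]; exact hp' u w hpr hE }
  have hs : a + σ a ∈ Z := fun u w hpr hE => by
    have := h.anti_mem hE (hk.mem a)
    convert this using 1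
    rw [map_add σ.symm, σ.symm_apply_apply, map_add, map_add, add_mul, add_mul, add_mul (u) w,
      hpr.semu, hpr.semw, mul_add]
    abel
  have hn : a * σ a ∈ Z := fun u w hpr hE => by
    have := h.mul_mul (hk.mem a) hE
    convert this using 1
    rw [mul_assoc (ι a) (u + w), add_mul u w, hpr.semu, hpr.semw, mul_add, map_mul σ.symm,
      σ.symm_apply_apply, map_mul, map_mul, mul_assoc, mul_assoc]
    congr 1
    rw [← mul_assoc, ← mul_assoc, ← map_mul, ← map_mul, mul_comm]
  -- `Z` is a field of order `Q`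
  haveI : IsDomain Z := inferInstance
  let _ : Field Z := Fintype.fieldOfDomain Z
  set Q := Fintype.card Z with hQ
  have hQ1 : 1 < Q := Fintype.one_lt_card
  have hfixZ : ∀ p ∈ Z, p ^ Q = p := fun p hpZ => by
    have := congrArg Subtype.val (FiniteField.pow_card (⟨p, hpZ⟩ : Z))
    simpa using this
  obtain ⟨ch, hch⟩ := CharP.exists Z
  obtain ⟨e, hchp, hcard⟩ := FiniteField.card Z ch
  have hch2 : ch = 2 := by
    have h2 : ((2 : ℕ) : Z) = 0 := by
      rw [Nat.cast_two, ← one_add_one_eq_two]
      exact Subtype.ext (charF h hk 1)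
    exact (Nat.prime_dvd_prime_iff_eq hchp Nat.prime_two).mp ((CharP.cast_eq_zero_iff Z ch 2).mp h2)
  subst hch2
  haveI : CharP F 2 := CharTwo.of_one_ne_zero_of_two_eq_zero one_ne_zero
    (by rw [show (2 : F) = 1 + 1 by norm_num]; exact charF h hk 1)
  let fr : F →+* F := iterateFrobenius F 2 e
  have hfr : ∀ p, fr p = p ^ Q := fun p => by rw [hQ, hcard]; rfl
  have hroot : ∀ p : F, p * p + (a + σ a) * p + a * σ a = 0 → p = a ∨ p = σ a := by
    intro p hp'
    have h2 : (p + a) * (p + σ a) = 0 := by linear_combination hp'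
    rcases mul_eq_zero.mp h2 with h3 | h3
    · exact Or.inl (by linear_combination h3 - charF h hk a)
    · exact Or.inr (by linear_combination h3 - charF h hk (σ a))
  have hroot' : ∀ p : F, (p = a ∨ p = σ a) → fr p = a ∨ fr p = σ a := by
    intro p hp'
    refine hroot _ ?_
    have h0 : p * p + (a + σ a) * p + a * σ a = 0 := by
      rcases hp' with rfl | rfl
      · linear_combination charF h hk (p * p) + charF h hk (p * σ p)
      · linear_combination charF h hk (σ a * σ a) + charF h hk (a * σ a)
    have := congrArg fr h0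
    rw [map_add, map_add, map_mul, map_mul, map_zero] at this
    rw [hfr (a + σ a), hfixZ _ hs, hfr (a * σ a), hfixZ _ hn] at this
    exact this
  have haZ : a ∈ Z := by
    rcases hroot' a (Or.inl rfl) with h1 | h1
    · by_contra haZ
      rw [hfr] at h1
      -- too many roots
      let f : Polynomial F := Polynomial.X ^ Q - Polynomial.X
      have hf0 : f ≠ 0 := FiniteField.X_pow_card_sub_X_ne_zero F hQ1
      have hdeg : f.natDegree = Q := FiniteField.X_pow_card_sub_X_natDegree_eq F hQ1
      have hsub : insert a ((Finset.univ : Finset Z).image (fun p : Z => (p : F))) ⊆ f.roots.toFinset := by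
        intro p hp'
        rw [Multiset.mem_toFinset, Polynomial.mem_roots hf0]
        show f.eval p = 0
        simp only [f, Polynomial.eval_sub, Polynomial.eval_pow, Polynomial.eval_X]
        rcases Finset.mem_insert.mp hp' with rfl | hp''
        · rw [h1, sub_self]
        · obtain ⟨q, -, rfl⟩ := Finset.mem_image.mp hp''
          rw [hfixZ _ q.2, sub_self]
      have h2 := (Finset.card_le_card hsub).trans
        ((Multiset.toFinset_card_le _).trans (Polynomial.card_roots' f))
      rw [hdeg, Finset.card_insert_of_notMem, Finset.card_image_of_injective _ Subtype.val_injective,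
        Finset.card_univ] at h2
      · omega
      · intro hm
        obtain ⟨q, -, hq⟩ := Finset.mem_image.mp hm
        exact haZ (hq ▸ q.2)
    · exfalso
      have h2 : fr (σ a) = σ (σ a) := by
        rw [hfr, ← map_pow, ← hfr, h1]
      rcases hroot' (σ a) (Or.inr rfl) with h3 | h3
      · exact hσ (h2 ▸ h3)
      · rw [h2] at h3
        have h4 := σ.injective h3
        exact hσ (by rw [h4, h4])
  have hz : z ∈ Z := by
    by_cases hz : z = 0
    · rw [hz]; exact Z.zero_mem
    · obtain ⟨n, rfl⟩ := hk.gen z hz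
      exact Z.pow_mem haZ n
  exact hz u w hp hb

/-- In a pair, both products are scalars. -/
theorem prods_scalar {σ : F ≃+* F} (hσ : σ (σ a) ≠ a) {u w : R} (hp : Pair (ι := ι) σ u w)
    (hb : u + w ∈ E) : (∃ α, u * w = ι α) ∧ (∃ β, w * u = ι β) := by
  obtain ⟨j, hj⟩ := hk.gen (σ (σ a)) (by simp [hk.ne])
  have key : ∀ c : F, ∃ p, ι (σ c) * (u * w) + ι (σ.symm c) * (w * u) = ι p := by
    intro c
    set A := ι (σ c) * (u * u) with hA
    set B := ι (σ.symm c) * (w * w) with hB
    set M := ι (σ c) * (u * w) + ι (σ.symm c) * (w * u) with hM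
    have hX : (u + w) * ι c * (u + w) = A + B + M := by
      rw [add_mul, hp.semu, hp.semw, hA, hB, hM]
      simp only [mul_add, add_mul, mul_assoc]
      abel
    have hXE : A + B + M ∈ E := hX ▸ h.mul_mul hb (hk.mem c)
    have hGE := gen_op_mem h hk hXE j
    rw [← hj] at hGE
    set d := σ (σ a) with hd
    have hAa : A * ι a = ι d * A := by
      rw [hA, mul_assoc, mul_assoc u u, hp.semu, ← mul_assoc u, hp.semu, ← hd, mul_assoc (ι d),
        ← mul_assoc, ← map_mul, mul_comm, map_mul, mul_assoc]
    have hBd : B * ι d = ι a * B := by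
      rw [hB, mul_assoc, mul_assoc w w, hp.semw, ← mul_assoc w, hp.semw,
        hd, σ.symm_apply_apply, σ.symm_apply_apply, mul_assoc (ι a), ← mul_assoc, ← map_mul,
        mul_comm, map_mul, mul_assoc]
    have hMa : M * ι a = ι a * M := by
      have h1 : u * w * ι a = ι a * (u * w) := by
        rw [mul_assoc, hp.semw, ← mul_assoc, hp.semu, σ.apply_symm_apply, mul_assoc]
      have h2 : w * u * ι a = ι a * (w * u) := by
        rw [mul_assoc, hp.semu, ← mul_assoc, hp.semw, σ.symm_apply_apply, mul_assoc]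
      have c1 : ∀ p, Commute (ι p) (ι a) := fun p => (Commute.all p a).map ι
      rw [hM]
      exact ((c1 _).mul_left (show Commute (u * w) (ι a) from h1)).add_left
        ((c1 _).mul_left (show Commute (w * u) (ι a) from h2))
    clear_value A B M
    have hMd := commute_all h hk hMa d
    have hG : ((A + B + M) * ι a + ι d * (A + B + M)) * ι d +
        ι a * ((A + B + M) * ι a + ι d * (A + B + M)) = ι ((a + d) * (a + d)) * M := by
      have e1 : (A + B + M) * ι a + ι d * (A + B + M) = (B * ι a + ι d * B) + ι (a + d) * M := by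
        rw [add_mul, add_mul, mul_add, mul_add, hAa, hMa, map_add, add_mul]
        rw [show ι d * A + B * ι a + ι a * M + (ι d * A + ι d * B + ι d * M) =
          (ι d * A + ι d * A) + (B * ι a + ι d * B + (ι a * M + ι d * M)) by abel, h.add_self,
          zero_add]
      rw [e1, add_mul, mul_add, add_add_add_comm]
      have e2 : (B * ι a + ι d * B) * ι d + ι a * (B * ι a + ι d * B) = 0 := by
        have e3 : ι a * (B * ι a + ι d * B) = B * ι a * ι d + ι d * B * ι d := by
          have e4 : ι a * ι d = ι d * ι a := by rw [← map_mul, ← map_mul, mul_comm]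
          rw [mul_add, ← mul_assoc, ← hBd, mul_assoc B, ← e4, ← mul_assoc, ← mul_assoc (ι a), e4,
            mul_assoc (ι d) (ι a), ← hBd, ← mul_assoc]
        rw [e3, ← add_mul, h.add_self]
      rw [e2, zero_add, mul_assoc, hMd, ← mul_assoc, ← mul_assoc, ← add_mul, ← map_mul, ← map_mul,
        ← map_add]
      congr 2
      ring
    rw [hG] at hGE
    have hne : (a + d) * (a + d) ≠ 0 := by
      intro e
      have : a + d = 0 := by simpa using e
      exact hσ (by linear_combination this - charF h hk a)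
    obtain ⟨p, hp'⟩ := hk.max _ hGE (by
      rw [mul_assoc, hMa, ← mul_assoc, ← map_mul, mul_comm, map_mul, mul_assoc])
    refine ⟨((a + d) * (a + d))⁻¹ * p, ?_⟩
    rw [map_mul, hp', ← mul_assoc, ← map_mul, inv_mul_cancel₀ hne, map_one, one_mul]
  obtain ⟨p, hp1⟩ := key 1
  obtain ⟨r, hr⟩ := key a
  simp only [map_one, one_mul] at hp1
  have hne : σ a + σ.symm a ≠ 0 := by
    intro e
    apply hσ
    have e6 : σ.symm a = σ a := by linear_combination e - charF h hk (σ a)
    rw [← e6, σ.apply_symm_apply]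
  have h1 : ι (σ a + σ.symm a) * (u * w) = ι (r + σ.symm a * p) := by
    rw [map_add, map_add, map_mul, ← hr, ← hp1, add_mul, mul_add, add_comm (ι (σ.symm a) * (u * w)),
      add_assoc, ← add_assoc (ι (σ.symm a) * (w * u)), h.add_self, zero_add]
  have h2 : u * w = ι ((σ a + σ.symm a)⁻¹ * (r + σ.symm a * p)) := by
    rw [map_mul, ← h1, ← mul_assoc, ← map_mul, inv_mul_cancel₀ hne, map_one, one_mul]
  refine ⟨⟨_, h2⟩, p + (σ a + σ.symm a)⁻¹ * (r + σ.symm a * p), ?_⟩
  rw [map_add, ← h2, ← hp1, add_comm (u * w) (w * u), add_assoc, h.add_self, add_zero]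

theorem order_facts (σ : F ≃+* F) : 0 < orderOf σ ∧ σ ^ orderOf σ = 1 ∧
    ∀ i, 0 < i → i < orderOf σ → (σ ^ i) a ≠ a := by
  haveI : Finite (F ≃+* F) := Finite.of_injective (fun f => (f : F → F)) DFunLike.coe_injective
  refine ⟨(isOfFinOrder_of_finite σ).orderOf_pos, pow_orderOf_eq_one σ, fun i hi his e => ?_⟩
  exact (Nat.not_le.mpr his) (orderOf_le_of_pow_eq_one hi (aut_ext h hk e))

theorem inv_pow_eq (σ : F ≃+* F) (n : ℕ) : (σ ^ n).symm = σ.symm ^ n := by
  show (σ ^ n)⁻¹ = σ⁻¹ ^ n
  rw [inv_pow]

/-- A pair with vanishing products is impossible. -/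
theorem no_nilpair {σ : F ≃+* F} {u w : R} (hp : Pair (ι := ι) σ u w) (hb : u + w ∈ E) (hu : u ≠ 0)
    (hσ : σ (σ a) ≠ a) (huw : u * w = 0) (hwu : w * u = 0) (hU : u ^ orderOf σ ≠ 0) : False := by
  obtain ⟨hs0, hτ, hmin⟩ := order_facts h hk σ
  set s := orderOf σ
  have hpow : ∀ n, 0 < n → (u + w) ^ n = u ^ n + w ^ n := by
    intro n hn
    induction n, hn using Nat.le_induction with
    | base => simp
    | succ n hn ih =>
      obtain ⟨m, rfl⟩ : ∃ m, n = m + 1 := ⟨n - 1, by omega⟩
      rw [pow_succ, ih, mul_add, add_mul, add_mul, ← pow_succ, ← pow_succ]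
      have e1 : w ^ (m + 1) * u = 0 := by rw [pow_succ, mul_assoc, hwu, mul_zero]
      have e2 : u ^ (m + 1) * w = 0 := by rw [pow_succ, mul_assoc, huw, mul_zero]
      rw [e1, e2, add_zero, zero_add]
  have hcomm : (u + w) ^ s * ι a = ι a * (u + w) ^ s := by
    rw [hpow s hs0, add_mul, mul_add, Semilin.pow ι hp.semu s a, Semilin.pow ι hp.semw s a,
      ← inv_pow_eq h hk, hτ]
    rfl
  obtain ⟨γ, hγ⟩ := hk.max _ (h.pow_mem hb s) hcomm
  have hws : w ^ s * u ^ s = 0 := by
    obtain ⟨m, hm⟩ : ∃ m, s = m + 1 := ⟨s - 1, by omega⟩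
    rw [hm, pow_succ w, pow_succ' u, mul_assoc, ← mul_assoc w u, hwu, zero_mul, mul_zero]
  have hfix : σ γ = γ := by
    have e : ι γ * (u + w) = (u + w) * ι γ := by rw [hγ, ← pow_succ, ← pow_succ']
    have e3 : ι (σ γ + γ) * u + ι (σ.symm γ + γ) * w = 0 := by
      rw [map_add, map_add, add_mul, add_mul, ← hp.semu, ← hp.semw, add_add_add_comm, ← add_mul,
        ← mul_add, e, h.add_self]
    have := scalar_eq_zero h hk hu (indep h hk hp hσ e3).1
    linear_combination this - charF h hk γ
  have hUV : u ^ s * u ^ s = ι γ * u ^ s := by rw [hγ, hpow s hs0, add_mul, hws, add_zero]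
  have hγ0 : γ ≠ 0 := by
    rintro rfl
    rw [map_zero] at hγ
    have h2 : ∀ n, (u + w) ^ n ≠ 0 := by
      have hne : u + w ≠ 0 := fun e => by
        have := indep h hk hp hσ (p := 1) (q := 1) (by simpa using e)
        simp at this
        exact hu this.1
      intro n
      induction n with
      | zero => rw [pow_zero]; exact h.nontrivial
      | succ n ih => rw [pow_succ']; exact fun e => ih (h.mul_eq_zero_left hb hne e)
    exact h2 s hγ.symm
  obtain ⟨y, Z, hy, hZ, he⟩ := exists_eigen ι hp.semu hs0 hτ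
    (fun i hi his => ⟨a, hmin i hi his⟩) hfix hγ0 hU hUV
  have hwZ : w * Z = 0 := by
    have h1 : w * (u * Z) = 0 := by rw [← mul_assoc, hwu, zero_mul]
    rw [he, ← mul_assoc, hp.semw, mul_assoc] at h1
    by_contra hne
    exact hy (by simpa using (scalar_eq_zero h hk hne h1))
  exact false_of_eigen h hk hp hb hu hσ hZ he (y' := 0) (by simpa using hwZ)

/-- A pair of inverse elements whose power has an eigenvalue is impossible. -/
theorem no_eigen {σ : F ≃+* F} {u w : R} (hp : Pair (ι := ι) σ u w) (hb : u + w ∈ E) (hu : u ≠ 0)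
    (hσ : σ (σ a) ≠ a) (hwu : w * u = 1) {μ : F} (hμ : σ μ = μ) (hμ0 : μ ≠ 0) {V : R} (hV : V ≠ 0)
    (hUV : u ^ orderOf σ * V = ι μ * V) : False := by
  obtain ⟨hs0, hτ, hmin⟩ := order_facts h hk σ
  obtain ⟨y, Z, hy, hZ, he⟩ := exists_eigen ι hp.semu hs0 hτ (fun i hi his => ⟨a, hmin i hi his⟩)
    hμ hμ0 hV hUV
  refine false_of_eigen h hk hp hb hu hσ hZ he (y' := (σ.symm y)⁻¹) ?_
  have h1 : ι (σ.symm y) * (w * Z) = Z := by
    rw [← mul_assoc, ← hp.semw, mul_assoc, ← he, ← mul_assoc, hwu, one_mul]
  have hy' : σ.symm y ≠ 0 := by simpa using hy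
  calc w * Z = ι (σ.symm y)⁻¹ * (ι (σ.symm y) * (w * Z)) := by
        rw [← mul_assoc, ← map_mul, inv_mul_cancel₀ hy', map_one, one_mul]
    _ = _ := by rw [h1]

/-- A pair of inverse elements is impossible. -/
theorem no_invpair {σ : F ≃+* F} {u w : R} (hp : Pair (ι := ι) σ u w) (hb : u + w ∈ E)
    (hσ : σ (σ a) ≠ a) (huw : u * w = 1) (hwu : w * u = 1) : False := by
  classical
  have hu : u ≠ 0 := fun e => h.nontrivial (by rw [← huw, e, zero_mul])
  obtain ⟨hs0, hτ, hmin⟩ := order_facts h hk σ
  set s := orderOf σ with hs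
  have hT : ∀ n : ℕ, u ^ n + w ^ n ∈ E := by
    suffices hS : ∀ n : ℕ, u ^ n + w ^ n ∈ Subring.closure ({u + w} : Set R) from
      fun n => h.closure_singleton_mem hb (hS n)
    intro n
    induction n using Nat.strong_induction_on with
    | _ n ih =>
      match n with
      | 0 => rw [pow_zero, pow_zero, h.two]; exact Subring.zero_mem _
      | 1 => rw [pow_one, pow_one]; exact Subring.subset_closure rfl
      | n + 2 =>
        have e : u ^ (n + 2) + w ^ (n + 2) =
            (u + w) * (u ^ (n + 1) + w ^ (n + 1)) + (u ^ n + w ^ n) := by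
          have e1 : u * w ^ (n + 1) = w ^ n := by rw [pow_succ', ← mul_assoc, huw, one_mul]
          have e2 : w * u ^ (n + 1) = u ^ n := by rw [pow_succ', ← mul_assoc, hwu, one_mul]
          rw [add_mul, mul_add, mul_add, e1, e2, ← pow_succ', ← pow_succ',
            show u ^ (n + 1 + 1) + w ^ n + (u ^ n + w ^ (n + 1 + 1)) + (u ^ n + w ^ n) =
              u ^ (n + 2) + w ^ (n + 2) + ((u ^ n + w ^ n) + (u ^ n + w ^ n)) by abel,
            h.add_self, add_zero]
        rw [e]
        exact Subring.add_mem _ (Subring.mul_mem _ (Subring.subset_closure rfl) (ih (n + 1) (by omega)))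
          (ih n (by omega))
  have hpw : ∀ n : ℕ, u ^ n * w ^ n = 1 ∧ w ^ n * u ^ n = 1 := fun n =>
    ⟨by rw [← Commute.mul_pow (show Commute u w from huw.trans hwu.symm), huw, one_pow],
     by rw [← Commute.mul_pow (show Commute w u from hwu.trans huw.symm), hwu, one_pow]⟩
  have hcomm : ∀ {X : R}, Semilin ι (1 : F ≃+* F) X → X * ι a = ι a * X := fun hX => by
    rw [hX a]; rfl
  rcases Nat.even_or_odd' s with ⟨t, ht | ht⟩
  · -- even order
    have ht0 : 0 < t := by omega
    have hsemt : Semilin ι (σ ^ t) (u ^ t + w ^ t) := fun c => by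
      have hinv : σ.symm ^ t = σ ^ t := by
        rw [← inv_pow_eq h hk]
        show (σ ^ t)⁻¹ = σ ^ t
        rw [inv_eq_iff_mul_eq_one, ← pow_add, ← two_mul, ← ht, hτ]
      rw [add_mul, mul_add, Semilin.pow ι hp.semu t c, Semilin.pow ι hp.semw t c, hinv]
    have h0 : u ^ t + w ^ t = 0 := by
      by_contra hne
      exact pure_false h hk (hT t) hne hsemt (hmin t ht0 (by omega))
    have hus : u ^ s = 1 := by
      rw [ht, two_mul, pow_add]
      nth_rw 2 [h.eq_of_add_eq_zero h0]
      exact (hpw t).1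
    exact no_eigen h hk hp hb hu hσ hwu (map_one σ) one_ne_zero h.nontrivial
      (by rw [← hs, hus, map_one, one_mul])
  · -- odd order
    set θ := u ^ s with hθ
    set θ' := w ^ s with hθ'
    have hθc : ∀ c, θ * ι c = ι c * θ := fun c => by
      rw [hθ, Semilin.pow ι hp.semu s c, hτ]; rfl
    have hθ'c : ∀ c, θ' * ι c = ι c * θ' := fun c => by
      rw [hθ', Semilin.pow ι hp.semw s c, ← inv_pow_eq h hk, hτ]; rfl
    obtain ⟨γ, hγ⟩ := hk.max _ (hT s) (by rw [add_mul, mul_add, hθc, hθ'c])
    have huθ : u * θ = θ * u := by rw [hθ, ← pow_succ, ← pow_succ']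
    have hwθ : w * θ = θ * w := (Commute.pow_right (show Commute w u from hwu.trans huw.symm) s)
    have hθ'γ : θ' = θ + ι γ := by rw [hγ, ← add_assoc, h.add_self, zero_add]
    have hfix : σ γ = γ := by
      have e : u * ι γ = ι γ * u := by
        rw [hγ, mul_add, add_mul, huθ,
          (Commute.pow_right (show Commute u w from huw.trans hwu.symm) s).eq]
      refine sub_eq_zero.mp (scalar_eq_zero h hk hu ?_)
      rw [map_sub, sub_mul, ← hp.semu γ, e, sub_self]
    have hquad : θ * θ + ι γ * θ + 1 = 0 := by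
      rw [← (hpw s).2, ← hθ, ← hθ', hθ'γ, add_mul]
      exact h.add_self _
    have hnoroot : ∀ l : F, l * l + γ * l + 1 ≠ 0 := by
      intro l hl
      have hprod : ι (l + γ) * ι l = 1 := by
        rw [← map_mul, ← map_one ι]
        congr 1
        linear_combination hl - charF h hk 1
      have hfac : (θ + ι l) * (θ + ι (l + γ)) = 0 := by
        rw [← hquad, ← hprod, mul_add, add_mul, add_mul, hθc (l + γ), map_add, add_mul (ι l),
          mul_add (ι l), add_mul]
        rw [show (ι γ : R) * ι l = ι l * ι γ by rw [← map_mul, ← map_mul, mul_comm],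
          show θ * θ + ι l * θ + (ι l * θ + ι γ * θ + (ι l * ι l + ι l * ι γ)) =
            θ * θ + ι γ * θ + (ι l * ι l + ι l * ι γ) + (ι l * θ + ι l * θ) by abel,
          h.add_self, add_zero]
      have hl0 : l ≠ 0 := by rintro rfl; simp at hl
      have hlg : l + γ ≠ 0 := by
        intro e
        refine h.nontrivial ?_
        rw [← hprod, e, map_zero, zero_mul]
      -- the roots are fixed by `σ`
      have hroots : σ l = l ∨ σ l = l + γ := by
        have e := congrArg σ hl
        rw [map_add, map_add, map_mul, map_mul, map_one, map_zero, hfix] at e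
        have h2 : (σ l + l) * (σ l + (l + γ)) = 0 := by
          linear_combination e + hl - charF h hk 1 + charF h hk (σ l * l)
        rcases mul_eq_zero.mp h2 with h3 | h3
        · exact Or.inl (by linear_combination h3 - charF h hk l)
        · exact Or.inr (by linear_combination h3 - charF h hk (l + γ))
      have hlfix : σ l = l := by
        rcases hroots with h1 | h1
        · exact h1
        have h2 : (σ ^ 2) l = l := by
          show σ (σ l) = l
          rw [h1, map_add, hfix, h1]
          linear_combination charF h hk γ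
        have h3 : (σ ^ s) l = σ l := by
          rw [ht, pow_succ', RingAut.mul_apply, pow_mul, pow_apply_fixed h2]
        rw [← h3, hτ]; rfl
      by_cases hV : θ + ι (l + γ) = 0
      · refine no_eigen h hk hp hb hu hσ hwu (μ := l + γ) (by rw [map_add, hlfix, hfix]) hlg
          h.nontrivial ?_
        rw [← hs, ← hθ, h.eq_of_add_eq_zero hV]
      · refine no_eigen h hk hp hb hu hσ hwu hlfix hl0 hV ?_
        rw [← hs, ← hθ]
        refine h.eq_of_add_eq_zero ?_
        rw [← add_mul]
        exact hfac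
    -- the field `L = k(θ)`
    have hθθ : θ * θ = ι γ * θ + 1 := by
      rw [← sub_eq_zero, h.sub_eq, ← add_assoc]; exact hquad
    have hmulL : ∀ p q p' q' : F, (ι p * θ + ι q) * (ι p' * θ + ι q') =
        ι (p * p' * γ + p * q' + q * p') * θ + ι (p * p' + q * q') := by
      intro p q p' q'
      have hmove : ∀ c x, θ * (ι c * x) = ι c * (θ * x) := fun c x => by
        rw [← mul_assoc, hθc, mul_assoc]
      simp only [mul_add, add_mul, mul_assoc, hθc, hmove, hθθ, map_add, map_mul, mul_one]
      abel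
    have hnorm : ∀ p q : F, p * p + p * q * γ + q * q = 0 → p = 0 ∧ q = 0 := by
      intro p q e
      by_cases hp0 : p = 0
      · refine ⟨hp0, ?_⟩
        rw [hp0] at e
        simpa using e
      · refine absurd ?_ (hnoroot (q / p))
        field_simp
        linear_combination e
    let L : Subring R :=
      { carrier := {x | ∃ p q : F, x = ι p * θ + ι q}
        one_mem' := ⟨0, 1, by simp⟩
        zero_mem' := ⟨0, 0, by simp⟩
        add_mem' := by
          rintro _ _ ⟨p, q, rfl⟩ ⟨p', q', rfl⟩
          exact ⟨p + p', q + q', by rw [map_add, map_add, add_mul]; abel⟩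
        neg_mem' := by
          rintro _ ⟨p, q, rfl⟩
          exact ⟨-p, -q, by rw [map_neg, map_neg, neg_mul, neg_add]⟩
        mul_mem' := by
          rintro _ _ ⟨p, q, rfl⟩ ⟨p', q', rfl⟩
          exact ⟨_, _, hmulL p q p' q'⟩ }
    have hLmem : ∀ p q : F, ι p * θ + ι q ∈ L := fun p q => ⟨p, q, rfl⟩
    have hkL : ∀ c, ι c ∈ L := fun c => ⟨0, c, by simp⟩
    have hθL : θ ∈ L := ⟨1, 0, by simp⟩
    have hLcomm : ∀ x ∈ L, ∀ y ∈ L, x * y = y * x := by
      rintro _ ⟨p, q, rfl⟩ _ ⟨p', q', rfl⟩
      have c1 : ∀ c, Commute (ι c) θ := fun c => (hθc c).symm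
      have c2 : ∀ c c', Commute (ι c) (ι c') := fun c c' => (Commute.all c c').map ι
      exact Commute.add_left
        (Commute.add_right (Commute.mul_left (Commute.mul_right (c2 _ _) (c1 _))
          (Commute.mul_right (c1 p').symm (Commute.refl θ)))
          (Commute.mul_left (c2 _ _) (c1 q').symm))
        (Commute.add_right (Commute.mul_right (c2 _ _) (c1 _)) (c2 _ _))
    let _ : CommRing L := { (inferInstance : Ring L) with
      mul_comm := fun x y => Subtype.ext (hLcomm x x.2 y y.2) }
    haveI : Nontrivial L := ⟨⟨1, 0, fun e => h.nontrivial (congrArg Subtype.val e)⟩⟩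
    haveI : NoZeroDivisors L := ⟨fun {x y} e => by
      obtain ⟨x, p, q, rfl⟩ := x
      obtain ⟨y, hy⟩ := y
      by_cases hpq : p = 0 ∧ q = 0
      · left; apply Subtype.ext; simp [hpq.1, hpq.2]
      right
      have hN : p * p + p * q * γ + q * q ≠ 0 := fun e' => hpq (hnorm p q e')
      have e' : (ι p * θ + ι q) * y = 0 := congrArg Subtype.val e
      have key : (ι p * θ' + ι q) * (ι p * θ + ι q) = ι (p * p + p * q * γ + q * q) := by
        rw [hθ'γ, mul_add (ι p) θ, ← map_mul, add_assoc, ← map_add, hmulL]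
        rw [show p * p * γ + p * q + (p * γ + q) * p = 0 by
          linear_combination charF h hk (p * p * γ) + charF h hk (p * q), map_zero, zero_mul, zero_add]
        congr 1
        ring
      apply Subtype.ext
      show y = 0
      by_contra hy0
      refine hN (scalar_eq_zero h hk hy0 ?_)
      rw [← key, mul_assoc, e', mul_zero]⟩
    haveI : IsDomain L := NoZeroDivisors.to_isDomain _
    let _ : Fintype L := Fintype.ofFinite L
    let _ : Field L := Fintype.fieldOfDomain L
    -- conjugation by `u ^ t`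
    have hconjL : ∀ (x : R), x ∈ L → w ^ t * x * u ^ t ∈ L := by
      rintro _ ⟨p, q, rfl⟩
      refine ⟨(σ.symm ^ t) p, (σ.symm ^ t) q, ?_⟩
      have e1 : w ^ t * θ = θ * w ^ t := (Commute.pow_left (show Commute w θ from hwθ) t)
      rw [mul_add, add_mul, ← mul_assoc, Semilin.pow ι hp.semw t p, Semilin.pow ι hp.semw t q,
        mul_assoc _ (w ^ t) θ, e1, mul_assoc, mul_assoc, mul_assoc, (hpw t).2, mul_one, mul_one]
    have hconjL' : ∀ (x : R), x ∈ L → u ^ t * x * w ^ t ∈ L := by
      rintro _ ⟨p, q, rfl⟩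
      refine ⟨(σ ^ t) p, (σ ^ t) q, ?_⟩
      have e1 : u ^ t * θ = θ * u ^ t := (Commute.pow_left (show Commute u θ from huθ) t)
      rw [mul_add, add_mul, ← mul_assoc, Semilin.pow ι hp.semu t p, Semilin.pow ι hp.semu t q,
        mul_assoc _ (u ^ t) θ, e1, mul_assoc, mul_assoc, mul_assoc, (hpw t).1, mul_one, mul_one]
    let τ : L ≃+* L :=
      { toFun := fun x => ⟨w ^ t * x * u ^ t, hconjL x x.2⟩
        invFun := fun x => ⟨u ^ t * x * w ^ t, hconjL' x x.2⟩
        left_inv := fun x => Subtype.ext (show u ^ t * (w ^ t * x * u ^ t) * w ^ t = x by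
          rw [← mul_assoc, ← mul_assoc, (hpw t).1, one_mul, mul_assoc, (hpw t).1, mul_one])
        right_inv := fun x => Subtype.ext (show w ^ t * (u ^ t * x * w ^ t) * u ^ t = x by
          rw [← mul_assoc, ← mul_assoc, (hpw t).2, one_mul, mul_assoc, (hpw t).2, mul_one])
        map_mul' := fun x y => Subtype.ext (show w ^ t * ((x : R) * y) * u ^ t =
          w ^ t * x * u ^ t * (w ^ t * y * u ^ t) by
          rw [mul_assoc (w ^ t * x) (u ^ t), ← mul_assoc (u ^ t), ← mul_assoc (u ^ t), (hpw t).1,
            one_mul]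
          simp only [mul_assoc])
        map_add' := fun x y => Subtype.ext (show w ^ t * ((x : R) + y) * u ^ t =
          w ^ t * x * u ^ t + w ^ t * y * u ^ t by rw [mul_add, add_mul]) }
    have hsemW : Semilin L.subtype τ (w ^ t) := fun x => by
      show w ^ t * (x : R) = w ^ t * x * u ^ t * w ^ t
      rw [mul_assoc _ (u ^ t), (hpw t).1, mul_one]
    have hτpow : ∀ (i : ℕ) (x : L), ((τ ^ i) x : R) = w ^ (t * i) * x * u ^ (t * i) := by
      intro i
      induction i with
      | zero => intro x; simp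
      | succ i ih =>
        intro x
        rw [pow_succ, RingAut.mul_apply, ih (τ x)]
        show w ^ (t * i) * (w ^ t * (x : R) * u ^ t) * u ^ (t * i) = _
        rw [show t * (i + 1) = t * i + t by ring, pow_add w, show t * i + t = t + t * i by ring,
          pow_add u]
        simp only [mul_assoc]
    have hτs : τ ^ s = 1 := RingEquiv.ext fun x => by
      apply Subtype.ext
      rw [hτpow]
      have e1 : Commute (w ^ (t * s)) (x : R) := by
        rw [mul_comm, pow_mul, ← hθ']
        refine Commute.pow_left ?_ t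
        rw [hθ'γ]
        exact Commute.add_left (hLcomm θ hθL x x.2) (hLcomm (ι γ) (hkL γ) x x.2)
      show w ^ (t * s) * (x : R) * u ^ (t * s) = x
      rw [e1.eq, mul_assoc, (hpw _).2, mul_one]
    have ht0 : 0 < t := by
      by_contra h0
      have : σ ^ 1 = 1 := by
        rw [show (1 : ℕ) = s by omega]; exact hτ
      rw [pow_one] at this
      exact hσ (by rw [this]; rfl)
    have hminτ : ∀ i, 0 < i → i < s → ∃ x, (τ ^ i) x ≠ x := by
      intro i hi his
      refine ⟨⟨ι a, hkL a⟩, fun e => ?_⟩
      have e1 := congrArg Subtype.val e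
      rw [hτpow] at e1
      simp only at e1
      have e2 : ι ((σ.symm ^ (t * i)) a) = ι a := by
        rw [Semilin.pow ι hp.semw, mul_assoc, (hpw _).2, mul_one] at e1
        exact e1
      have e3 : (σ ^ (t * i)).symm a = a := by
        rw [inv_pow_eq h hk]; exact iota_inj h hk e2
      have e4 : σ ^ (t * i) = 1 := aut_ext h hk (by
        conv_lhs => rw [← e3]
        rw [RingEquiv.apply_symm_apply]; rfl)
      have hdvd : s ∣ t * i := orderOf_dvd_of_pow_eq_one e4
      have hco : Nat.Coprime s t := by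
        rw [ht, show 2 * t + 1 = 1 + t * 2 by ring]
        simp
      exact absurd (Nat.le_of_dvd hi (hco.dvd_of_dvd_mul_left hdvd)) (by omega)
    -- choose `x` of the right norm
    have hfixθ : τ (⟨θ, hθL⟩ ^ t) = ⟨θ, hθL⟩ ^ t := by
      apply Subtype.ext
      show w ^ t * (θ ^ t) * u ^ t = θ ^ t
      rw [(Commute.pow_pow (show Commute w θ from hwθ) t t).eq, mul_assoc, (hpw t).2, mul_one]
    obtain ⟨x, hx⟩ := exists_prod_eq τ hs0 hτs hminτ hfixθ
    obtain ⟨p, q, hxpq⟩ := x.2
    -- the new pair
    set m := t + 1 with hm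
    set σ' := σ ^ m with hσ'
    have hσ't : σ.symm ^ t = σ' := by
      rw [← inv_pow_eq h hk, hσ']
      show (σ ^ t)⁻¹ = σ ^ m
      rw [inv_eq_iff_mul_eq_one, ← pow_add, show t + m = s by omega, hτ]
    have hσσ : σ' (σ' a) ≠ a := by
      rw [← RingAut.mul_apply, hσ', ← pow_add, show m + m = s + 1 by omega, pow_add, hτ, one_mul,
        pow_one]
      exact fun e => hσ (by rw [e, e])
    have hpair1 : Pair (ι := ι) σ' (u ^ m) (w ^ m) :=
      ⟨Semilin.pow ι hp.semu m, by rw [hσ', inv_pow_eq h hk]; exact Semilin.pow ι hp.semw m⟩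
    have hpair2 : Pair (ι := ι) σ' (w ^ t) (u ^ t) :=
      ⟨hσ't ▸ Semilin.pow ι hp.semw t, by
        rw [← hσ't, ← inv_pow_eq h hk, RingEquiv.symm_symm]; exact Semilin.pow ι hp.semu t⟩
    have hE1 := scale_mem h hk hσσ hpair1 (hT m) p
    have hE2 := scale_mem h hk hσσ hpair2 (by rw [add_comm]; exact hT t) q
    set u'' := (x : R) * w ^ t with hu''
    set w'' := ι (σ'.symm p) * w ^ m + ι (σ'.symm q) * u ^ t with hw''
    have hu''eq : u'' = ι p * u ^ m + ι q * w ^ t := by
      have e : θ * w ^ t = u ^ m := by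
        rw [hθ, show s = m + t by omega, pow_add, mul_assoc, (hpw t).1, mul_one]
      rw [hu'', hxpq, add_mul, mul_assoc, e]
    have hbE : u'' + w'' ∈ E := by
      have := E.add_mem hE1 hE2
      convert this using 1
      rw [hu''eq, hw'']
      abel
    have hus : u'' ^ s = 1 := by
      rw [hu'', show ((x : R) * w ^ t) ^ s = (L.subtype x * w ^ t) ^ s from rfl,
        Semilin.mul_pow L.subtype hsemW, hx]
      show θ ^ t * (w ^ t) ^ s = 1
      rw [hθ, ← pow_mul, ← pow_mul, mul_comm s t]
      exact (hpw _).1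
    have hu''0 : u'' ≠ 0 := by
      intro e
      rw [e, zero_pow hs0.ne'] at hus
      exact h.nontrivial hus.symm
    have hp'' : Pair (ι := ι) σ' u'' w'' := by
      refine ⟨fun c => ?_, fun c => ?_⟩
      · rw [hu''eq, add_mul, mul_add, mul_assoc, mul_assoc, hpair1.semu c, hpair2.semu c,
          ← mul_assoc, ← mul_assoc (ι q), ← map_mul, ← map_mul, mul_comm p, mul_comm q, map_mul,
          map_mul, mul_assoc, mul_assoc]
      · rw [hw'', add_mul, mul_add, mul_assoc, mul_assoc, hpair1.semw c, hpair2.semw c,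
          ← mul_assoc, ← mul_assoc (ι (σ'.symm q)), ← mul_assoc (ι (σ'.symm c)),
          ← mul_assoc (ι (σ'.symm c))]
        simp only [← map_mul, mul_comm]
    obtain ⟨-, β, hβ⟩ := prods_scalar h hk hσσ hp'' hbE
    have hs' : orderOf σ' = s := by
      rw [hσ', Nat.Coprime.orderOf_pow]
      show Nat.Coprime s m
      have : Nat.Coprime (2 * m) s → Nat.Coprime s m := fun e =>
        (Nat.Coprime.coprime_mul_left e).symm
      exact this (by rw [show 2 * m = s + 1 by omega]; simp)
    obtain ⟨hs0', hτ', hmin'⟩ := order_facts h hk σ'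
    obtain ⟨y, Z, hy, hZ, he⟩ := exists_eigen ι hp''.semu hs0' hτ'
      (fun i hi his => ⟨a, hmin' i hi his⟩) (μ := 1) (map_one σ') one_ne_zero h.nontrivial
      (by rw [hs', hus, map_one])
    have h1 : ι (σ'.symm y) * (w'' * Z) = ι β * Z := by
      rw [← mul_assoc, ← hp''.semw, mul_assoc, ← he, ← mul_assoc, hβ]
    have hy' : σ'.symm y ≠ 0 := by simpa using hy
    refine false_of_eigen h hk hp'' hbE hu''0 hσσ hZ he (y' := (σ'.symm y)⁻¹ * β) ?_
    rw [map_mul, mul_assoc, ← h1, ← mul_assoc, ← map_mul, inv_mul_cancel₀ hy', map_one, one_mul]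

/-- There are no pairs at all. -/
theorem commutes (b : R) (hb : b ∈ E) : b * ι a = ι a * b := by
  by_contra hne
  obtain ⟨σ, u, w, hp, hσ, hu, hw, hbE⟩ := exists_pair h hk hb hne
  obtain ⟨⟨α, hα⟩, β, hβ⟩ := prods_scalar h hk hσ hp hbE
  have hαβ : α = σ β := by
    refine sub_eq_zero.mp (scalar_eq_zero h hk hu ?_)
    rw [map_sub, sub_mul, ← hp.semu β, ← hβ, ← hα, mul_assoc, sub_self]
  by_cases hβ0 : β = 0
  · have huw : u * w = 0 := by rw [hα, hαβ, hβ0, map_zero, map_zero]
    have hwu : w * u = 0 := by rw [hβ, hβ0, map_zero]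
    by_cases hU : u ^ orderOf σ = 0
    · by_cases hW : w ^ orderOf σ = 0
      · obtain ⟨hs0, -, -⟩ := order_facts h hk σ
        have hbn : ∀ n, (u + w) ^ n ≠ 0 := by
          have hne' : u + w ≠ 0 := fun e => by
            have := indep h hk hp hσ (p := 1) (q := 1) (by simpa using e)
            simp at this
            exact hu this.1
          intro n
          induction n with
          | zero => rw [pow_zero]; exact h.nontrivial
          | succ n ih => rw [pow_succ']; exact fun e => ih (h.mul_eq_zero_left hbE hne' e)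
        apply hbn (orderOf σ)
        rw [Commute.add_pow (show Commute u w from huw.trans hwu.symm)]
        refine Finset.sum_eq_zero fun i hi => ?_
        rcases Nat.eq_zero_or_pos i with rfl | hi0
        · simp [hW]
        · rcases Nat.eq_zero_or_pos (orderOf σ - i) with h0 | h0
          · have : i = orderOf σ := by have := Finset.mem_range.mp hi; omega
            rw [this, hU, zero_mul, zero_mul]
          · obtain ⟨k, hk'⟩ : ∃ k, i = k + 1 := ⟨i - 1, by omega⟩
            obtain ⟨l, hl⟩ : ∃ l, orderOf σ - i = l + 1 := ⟨orderOf σ - i - 1, by omega⟩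
            rw [hl, hk', pow_succ u, pow_succ' w, mul_assoc (u ^ k), ← mul_assoc u, huw, zero_mul,
              mul_zero, zero_mul]
      · have hord : orderOf σ.symm = orderOf σ := orderOf_inv σ
        exact no_nilpair h hk (σ := σ.symm) ⟨hp.semw, by rw [RingEquiv.symm_symm]; exact hp.semu⟩
          (by rw [add_comm]; exact hbE) hw (symm_sq_ne h hk hσ) hwu huw (by rw [hord]; exact hW)
    · exact no_nilpair h hk hp hbE hu hσ huw hwu hU
  · obtain ⟨r, hr⟩ := exists_sqrtF h hk β⁻¹
    have hscale := scale_mem h hk hσ hp hbE (σ r)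
    rw [σ.symm_apply_apply] at hscale
    refine no_invpair h hk (σ := σ) (u := ι (σ r) * u) (w := ι r * w)
      ⟨fun c => by rw [mul_assoc, hp.semu c, ← mul_assoc, ← map_mul, mul_comm, map_mul, mul_assoc],
       fun c => by rw [mul_assoc, hp.semw c, ← mul_assoc, ← map_mul, mul_comm, map_mul, mul_assoc]⟩
      hscale hσ ?_ ?_
    · rw [mul_assoc, ← mul_assoc u, hp.semu, mul_assoc, hα, hαβ, ← map_mul, ← map_mul, ← map_mul,
        ← map_mul, ← mul_assoc, hr, inv_mul_cancel₀ hβ0, map_one, map_one]
    · rw [mul_assoc, ← mul_assoc w, hp.semw, σ.symm_apply_apply, mul_assoc, hβ, ← map_mul, ← map_mul,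
        ← mul_assoc, hr, inv_mul_cancel₀ hβ0, map_one]

end Maximal

/-- **A finite special Jordan division algebra is commutative.** -/
theorem Hyp.commutative {R : Type*} [Ring R] [Finite R] {E : AddSubgroup R} (h : Hyp E) :
    ∀ x ∈ E, ∀ y ∈ E, x * y = y * x := by
  classical
  intro x hx y hy
  haveI : Finite (Subring R) := Finite.of_injective (fun S => (S : Set R)) SetLike.coe_injective
  obtain ⟨S, hS⟩ := (Set.toFinite {S : Subring R | (S : Set R) ⊆ E ∧ x ∈ S ∧
      ∀ p ∈ S, ∀ q ∈ S, p * q = q * p}).exists_maximal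
    ⟨Subring.closure {x}, fun p hp => h.closure_singleton_mem hx hp,
      Subring.subset_closure rfl, fun p hp q hq => Hyp.closure_comm (by
        rintro p rfl q rfl; rfl) hp hq⟩
  obtain ⟨⟨hSE, hxS, hScomm⟩, hSmax⟩ := hS
  let _ : CommRing S := { (inferInstance : Ring S) with
    mul_comm := fun p q => Subtype.ext (hScomm p p.2 q q.2) }
  haveI : Nontrivial S := ⟨⟨1, 0, fun e => h.nontrivial (congrArg Subtype.val e)⟩⟩
  haveI : NoZeroDivisors S := ⟨fun {p q} e => by
    by_cases hp : p = 0
    · exact Or.inl hp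
    · exact Or.inr (Subtype.ext (h.mul_eq_zero_left (hSE p.2) (fun e' => hp (Subtype.ext e'))
        (congrArg Subtype.val e)))⟩
  haveI : IsDomain S := NoZeroDivisors.to_isDomain _
  let _ : Fintype S := Fintype.ofFinite S
  let _ : Field S := Fintype.fieldOfDomain S
  obtain ⟨g, hg⟩ := IsCyclic.exists_generator (α := Sˣ)
  have hgen : ∀ p : S, p ≠ 0 → ∃ n : ℕ, p = (g : S) ^ n := by
    intro p hp
    obtain ⟨n, hn⟩ := (isOfFinOrder_of_finite g).mem_powers_iff_mem_zpowers.mpr (hg (Units.mk0 p hp))
    exact ⟨n, by simpa using (congrArg Units.val hn).symm⟩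
  have hcl : ∀ z ∈ E, (∀ p ∈ S, z * p = p * z) → z ∈ S := by
    intro z hz hzc
    have hT : ∀ p ∈ (S : Set R) ∪ {z}, ∀ q ∈ (S : Set R) ∪ {z}, p * q = q * p := by
      rintro p (hp | rfl) q (hq | rfl)
      · exact hScomm p hp q hq
      · exact (hzc p hp).symm
      · exact hzc q hq
      · rfl
    have hle : S ≤ Subring.closure ((S : Set R) ∪ {z}) := fun p hp =>
      Subring.subset_closure (Or.inl hp)
    exact hSmax ⟨fun p hp => h.closure_mem hT (Set.union_subset hSE (by simpa using hz)) hp,
      hle hxS, fun p hp q hq => Hyp.closure_comm hT hp hq⟩ hle (Subring.subset_closure (Or.inr rfl))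
  have hk : Maxl E (F := S) S.subtype (g : S) :=
    { mem := fun p => hSE p.2
      max := by
        intro z hz e
        refine ⟨⟨z, hcl z hz fun p hp => ?_⟩, rfl⟩
        by_cases hp0 : (⟨p, hp⟩ : S) = 0
        · have : p = 0 := congrArg Subtype.val hp0
          rw [this, mul_zero, zero_mul]
        · obtain ⟨n, hn⟩ := hgen ⟨p, hp⟩ hp0
          have : p = ((g : S) : R) ^ n := congrArg Subtype.val hn
          rw [this]
          exact Commute.pow_right (show Commute z ((g : S) : R) from e) n
      gen := hgen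
      ne := Units.ne_zero g }
  have := commute_all h hk (commutes h hk y hy) ⟨x, hxS⟩
  exact this.symm

end CfsgLib.Jordan.InvClosed
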