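import Mathlib
import Cfsg.Agent.Lib.Fpf.AbelianIdem

/-!
# Frobenius' proof of Jordan's theorem

The elements of a finite group of unitary operators close to a real scalar near `1` commute with
each other, so generate an abelian normal subgroup.
-/

set_option autoImplicit false
set_option linter.style.haveILetI false

namespace CfsgLib.Jordan

open scoped ComplexConjugate commutatorElement

universe u

variable {G : Type u} [Group G] [Fintype G] {d : ℕ}
  (ρ : Representation ℂ G (Fin d → ℂ))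

/-- The orbit map into a Euclidean space. -/
noncomputable def orbitMap : (Fin d → ℂ) →ₗ[ℂ] EuclideanSpace ℂ (G × Fin d) where
  toFun v := WithLp.toLp 2 fun x => ρ x.1 v x.2
  map_add' v w := by ext x; simp
  map_smul' c v := by ext x; simp

theorem orbitMap_apply (v : Fin d → ℂ) (x : G × Fin d) : orbitMap ρ v x = ρ x.1 v x.2 := rfl

/-- The averaged inner product. -/
noncomputable def form (v w : Fin d → ℂ) : ℂ := inner ℂ (orbitMap ρ v) (orbitMap ρ w)

/-- The averaged norm. -/
noncomputable def nrm (v : Fin d → ℂ) : ℝ := ‖orbitMap ρ v‖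

theorem form_map (h : G) (v w : Fin d → ℂ) : form ρ (ρ h v) (ρ h w) = form ρ v w := by
  simp only [form, PiLp.inner_apply]
  refine Fintype.sum_equiv ((Equiv.mulRight h).prodCongr (Equiv.refl _)) _ _ fun x => ?_
  simp [orbitMap_apply]

theorem nrm_sq (v : Fin d → ℂ) : (form ρ v v).re = nrm ρ v ^ 2 := by
  simp only [form, nrm]
  exact inner_self_eq_norm_sq (𝕜 := ℂ) _

theorem nrm_map (h : G) (v : Fin d → ℂ) : nrm ρ (ρ h v) = nrm ρ v := by
  have h1 : nrm ρ (ρ h v) ^ 2 = nrm ρ v ^ 2 := by rw [← nrm_sq, ← nrm_sq, form_map]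
  exact (pow_left_inj₀ (norm_nonneg _) (norm_nonneg _) two_ne_zero).mp h1

theorem eq_zero_of_nrm {v : Fin d → ℂ} (h : nrm ρ v = 0) : v = 0 := by
  rw [nrm, norm_eq_zero] at h
  funext i
  have := congrArg (fun z : EuclideanSpace ℂ (G × Fin d) => z (1, i)) h
  simpa [orbitMap_apply] using this

theorem nrm_sub_le (v w : Fin d → ℂ) : nrm ρ (v - w) ≤ nrm ρ v + nrm ρ w := by
  simp only [nrm, map_sub]
  exact norm_sub_le _ _

theorem nrm_add_le (v w : Fin d → ℂ) : nrm ρ (v + w) ≤ nrm ρ v + nrm ρ w := by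
  simp only [nrm, map_add]
  exact norm_add_le _ _

theorem nrm_smul (c : ℂ) (v : Fin d → ℂ) : nrm ρ (c • v) = ‖c‖ * nrm ρ v := by
  simp only [nrm, map_smul]
  exact norm_smul _ _

/-- `ρ g - a` has operator norm at most `r` for the averaged norm. -/
def Near (g : G) (a r : ℝ) : Prop :=
  ∀ v, nrm ρ (ρ g v - (a : ℂ) • v) ≤ r * nrm ρ v

theorem near_commutator {g h : G} {a r s : ℝ} (hr : 0 ≤ r) (hs : 0 ≤ s) (hg : Near ρ g a r) (hh : Near ρ h 1 s) :
    Near ρ ⁅g, h⁆ 1 (2 * r * s) := by
  intro v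
  set u := ρ g⁻¹ (ρ h⁻¹ v) with hu
  have hun : nrm ρ u = nrm ρ v := by rw [hu, nrm_map, nrm_map]
  have h1 : ρ ⁅g, h⁆ v = ρ g (ρ h u) := by
    rw [commutatorElement_def, map_mul, map_mul, map_mul]
    rfl
  have h2 : v = ρ h (ρ g u) := by
    rw [hu, ← Module.End.mul_apply (ρ g), ← map_mul, mul_inv_cancel, map_one, Module.End.one_apply,
      ← Module.End.mul_apply (ρ h), ← map_mul, mul_inv_cancel, map_one, Module.End.one_apply]
  have key : ρ ⁅g, h⁆ v - ((1 : ℝ) : ℂ) • v =
      (ρ g (ρ h u - u) - (a : ℂ) • (ρ h u - u)) - (ρ h (ρ g u - (a : ℂ) • u) - (ρ g u - (a : ℂ) • u)) := by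
    rw [h1, h2]
    simp only [map_sub, map_smul, Complex.ofReal_one, one_smul, smul_sub]
    abel
  rw [key]
  refine (nrm_sub_le ρ _ _).trans ?_
  have e1 : nrm ρ (ρ h u - u) ≤ s * nrm ρ u := by simpa using hh u
  have e2 : nrm ρ (ρ h (ρ g u - (a : ℂ) • u) - (ρ g u - (a : ℂ) • u)) ≤ s * nrm ρ (ρ g u - (a : ℂ) • u) := by
    simpa using hh (ρ g u - (a : ℂ) • u)
  have e3 := hg (ρ h u - u)
  have e4 := hg u
  rw [← hun]
  have hn := norm_nonneg (orbitMap ρ u)
  calc _ ≤ r * (s * nrm ρ u) + s * (r * nrm ρ u) :=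
        add_le_add (e3.trans (mul_le_mul_of_nonneg_left e1 hr)) (e2.trans (mul_le_mul_of_nonneg_left e4 hs))
    _ = 2 * r * s * nrm ρ u := by ring

theorem near_conj {g : G} {a r : ℝ} (hg : Near ρ g a r) (x : G) : Near ρ (x * g * x⁻¹) a r := by
  intro v
  have h1 := hg (ρ x⁻¹ v)
  rw [nrm_map] at h1
  refine le_trans (le_of_eq ?_) h1
  rw [← nrm_map ρ x (ρ g (ρ x⁻¹ v) - _), map_sub, map_smul, map_mul, map_mul]
  congr 2
  · rw [← Module.End.mul_apply (ρ x), ← map_mul, mul_inv_cancel, map_one, Module.End.one_apply]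

variable {ρ}

/-- Decomposition for a commutative subgroup. -/
theorem exists_decomp (H : Subgroup G) [IsMulCommutative H] :
    ∃ (X : Type u) (_ : Fintype X) (χ : X → H →* ℂˣ) (P : X → Module.End ℂ (Fin d → ℂ)),
      (∀ v, ∑ x, P x v = v) ∧ (∀ x (h : H) v, ρ h (P x v) = (χ x h).1 • P x v) ∧
      Fintype.card X ≤ d ∧
      (∀ x y, x ≠ y → ∀ v w, form ρ (P x v) (P y w) = 0) := by
  classical
  letI : CommGroup H := { (inferInstance : Group H) with mul_comm := mul_comm' }
  have hN : (Nat.card H : ℂ) ≠ 0 := Nat.cast_ne_zero.mpr Nat.card_pos.ne'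
  haveI : Finite (H →* ℂˣ) := Nat.finite_of_card_ne_zero (by
    rw [CfsgLib.AbelianIdem.card_hom hN]; exact Nat.card_pos.ne')
  haveI := Fintype.ofFinite (H →* ℂˣ)
  set σ : H →* Module.End ℂ (Fin d → ℂ) := (ρ : G →* Module.End ℂ (Fin d → ℂ)).comp H.subtype
  set e := CfsgLib.AbelianIdem.idem (K := ℂ) σ
  let X := {χ : H →* ℂˣ // e χ ≠ 0}
  have hact : ∀ (χ : H →* ℂˣ) (h : H) v, ρ h (e χ v) = (χ h).1 • e χ v := fun χ h v =>
    LinearMap.congr_fun (CfsgLib.AbelianIdem.map_mul_idem σ χ h) v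
  refine ⟨X, inferInstance, fun x => x.1, fun x => e x.1, fun v => ?_, fun x h v => hact x.1 h v, ?_, ?_⟩
  · have h1 : ∑ x : X, e x.1 v = ∑ χ : H →* ℂˣ, e χ v :=
      (Finset.sum_subtype (Finset.univ.filter fun χ => e χ ≠ 0) (by simp) fun χ => e χ v).symm.trans
        (Finset.sum_filter_of_ne fun χ _ hne h0 => hne (by simp [h0]))
    rw [h1, ← LinearMap.sum_apply, CfsgLib.AbelianIdem.sum_idem σ hN, Module.End.one_apply]
  · have hex : ∀ x : X, ∃ v, e x.1 v ≠ 0 := fun x => by
      by_contra hc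
      push Not at hc
      exact x.2 (LinearMap.ext hc)
    choose v hv using hex
    have hli : LinearIndependent ℂ fun x : X => e x.1 (v x) := by
      rw [Fintype.linearIndependent_iff]
      intro c hc y
      have h1 := congrArg (e y.1) hc
      rw [map_sum, map_zero, Finset.sum_eq_single y] at h1
      · rw [map_smul, ← Module.End.mul_apply, CfsgLib.AbelianIdem.idem_mul_idem σ hN, if_pos rfl] at h1
        exact (smul_eq_zero.mp h1).resolve_right (hv y)
      · intro x _ hxy
        rw [map_smul, ← Module.End.mul_apply, CfsgLib.AbelianIdem.idem_mul_idem σ hN,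
          if_neg (fun h => hxy (Subtype.ext h.symm)), LinearMap.zero_apply, smul_zero]
      · simp
    simpa using hli.fintype_card_le_finrank
  · intro x y hxy v w
    obtain ⟨h, hh⟩ := DFunLike.ne_iff.mp (fun e => hxy (Subtype.ext e) : x.1 ≠ y.1)
    have h1 := form_map ρ h (e x.1 v) (e y.1 w)
    rw [hact, hact] at h1
    simp only [form, map_smul, inner_smul_left, inner_smul_right] at h1
    by_contra hne
    apply hh
    have hx : ‖(x.1 h).1‖ = 1 :=
      Complex.norm_eq_one_of_pow_eq_one (n := Nat.card H)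
        (by rw [← Units.val_pow_eq_pow_val, ← map_pow, pow_card_eq_one', map_one, Units.val_one]) Nat.card_pos.ne'
    have h2 : conj (x.1 h).1 * (y.1 h).1 = 1 := by
      refine mul_right_cancel₀ (b := form ρ (e x.1 v) (e y.1 w)) hne ?_
      rw [one_mul]
      simp only [form]
      linear_combination h1
    rw [← Complex.inv_eq_conj hx, inv_mul_eq_one₀ (Units.ne_zero _)] at h2
    exact Units.ext h2

/-- Frobenius' lemma: an element commuting with its commutator with an element near `1`. -/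
theorem commutator_eq_one (hinj : Function.Injective ρ) {g h : G} {s : ℝ} (hs1 : s ≤ 1)
    (hh : Near ρ h 1 s) (hc : g * ⁅g, h⁆ = ⁅g, h⁆ * g) : ⁅g, h⁆ = 1 := by
  classical
  set g' := h * g * h⁻¹ with hg'
  have hg'' : g' = ⁅g, h⁆⁻¹ * g := by rw [hg', commutatorElement_def]; group
  have hcomm : g * g' = g' * g := by
    have h1 : Commute g ⁅g, h⁆⁻¹ := (show Commute g ⁅g, h⁆ from hc).inv_right
    rw [hg'']
    exact (h1.mul_right (Commute.refl g)).eq
  set H := Subgroup.closure ({g, g'} : Set G)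
  haveI : IsMulCommutative H := Subgroup.isMulCommutative_closure (by
    rintro x (rfl | rfl) y (rfl | rfl) <;> first | rfl | exact hcomm | exact hcomm.symm)
  obtain ⟨X, _, χ, P, hsum, hact, -, -⟩ := exists_decomp (ρ := ρ) H
  have hgH : g ∈ H := Subgroup.subset_closure (Or.inl rfl)
  have hg'H : g' ∈ H := Subgroup.subset_closure (Or.inr rfl)
  have heq : ∀ x v, ρ g' (P x v) = ρ g (P x v) := by
    intro x v
    set w := P x v
    have h1 : ρ g w = (χ x ⟨g, hgH⟩).1 • w := hact x ⟨g, hgH⟩ v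
    have h2 : ρ g' w = (χ x ⟨g', hg'H⟩).1 • w := hact x ⟨g', hg'H⟩ v
    set l := (χ x ⟨g', hg'H⟩).1
    set m := (χ x ⟨g, hgH⟩).1
    by_cases hlm : l = m
    · rw [h1, h2, hlm]
    set u := ρ h⁻¹ w with hu
    have hgu : ρ g u = l • u := by
      rw [hu, ← map_smul, ← h2, ← Module.End.mul_apply (ρ g) (ρ h⁻¹), ← map_mul, ← Module.End.mul_apply (ρ h⁻¹) (ρ g'), ← map_mul, hg']
      congr 2
      group
    have horth : form ρ w u = 0 := by
      have h3 := form_map ρ g w u
      rw [h1, hgu] at h3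
      simp only [form, map_smul, inner_smul_left, inner_smul_right] at h3
      by_contra hne
      apply hlm
      have hm1 : ‖m‖ = 1 :=
        Complex.norm_eq_one_of_pow_eq_one (n := Nat.card H)
          (by rw [← Units.val_pow_eq_pow_val, ← map_pow, pow_card_eq_one', map_one, Units.val_one]) Nat.card_pos.ne'
      have h4 : conj m * l = 1 := by
        refine mul_right_cancel₀ (b := form ρ w u) hne ?_
        rw [one_mul]
        simp only [form]
        linear_combination h3
      rw [← Complex.inv_eq_conj hm1, inv_mul_eq_one₀ (Units.ne_zero _)] at h4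
      exact h4.symm
    have hwu : ρ h u = w := by
      rw [hu, ← Module.End.mul_apply, ← map_mul, mul_inv_cancel, map_one, Module.End.one_apply]
    have h5 := hh u
    rw [Complex.ofReal_one, one_smul, hwu] at h5
    have h6 : nrm ρ (w - u) ^ 2 = nrm ρ w ^ 2 + nrm ρ u ^ 2 := by
      simp only [nrm, map_sub, sq]
      have h7 : (inner ℂ (orbitMap ρ w) (orbitMap ρ u) : ℂ) = 0 := horth
      rw [norm_sub_mul_self (𝕜 := ℂ), h7]
      simp
    have h8 : nrm ρ w = nrm ρ u := by rw [← hwu, nrm_map]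
    have hu0 : nrm ρ u = 0 := by
      have h9 : nrm ρ (w - u) ≤ nrm ρ u :=
        h5.trans (mul_le_of_le_one_left (norm_nonneg _) hs1)
      have h10 := pow_le_pow_left₀ (norm_nonneg _) h9 2
      change nrm ρ (w - u) ^ 2 ≤ nrm ρ u ^ 2 at h10
      rw [h6, h8] at h10
      have h11 : nrm ρ u ^ 2 = 0 := le_antisymm (by linarith) (sq_nonneg _)
      exact pow_eq_zero_iff two_ne_zero |>.mp h11
    have hw0 : w = 0 := eq_zero_of_nrm ρ (h8.trans hu0)
    rw [hw0, map_zero, map_zero]
  have h12 : g' = g := hinj (LinearMap.ext fun v => by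
    rw [← hsum v, map_sum, map_sum]
    exact Finset.sum_congr rfl fun x _ => heq x v)
  rw [hg'', inv_mul_eq_iff_eq_mul, right_eq_mul] at h12
  exact h12

end CfsgLib.Jordan
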